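import Cfsg.Agent.Stability.Action
import Cfsg.Agent.EvenLocal.Qd
import Cfsg.Agent.CF.StableEquiv
import Cfsg.Prelude.Def_LocalEven

/-!
`Qd(p)`-free groups are `p`-stable in the normalizer form, and `Qd(p)` is not.
-/

set_option autoImplicit false
set_option linter.style.haveILetI false

open Subgroup
open scoped commutatorElement

namespace Cfsg.Agent.LocalP.QdStab

variable {G : Type*} [Group G] {p : ℕ} {X : Type*} [Group X]

/-- Sections of a subgroup are sections of the group. -/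
theorem section_subgroup {H : Subgroup G} {K R : Subgroup ↥H} (hR : (R.subgroupOf K).Normal)
    (e : (↥K ⧸ R.subgroupOf K) ≃* X) :
    ∃ (K' R' : Subgroup G) (_ : (R'.subgroupOf K').Normal),
      Nonempty ((↥K' ⧸ R'.subgroupOf K') ≃* X) := by
  let j := equivMapOfInjective K H.subtype H.subtype_injective
  have he : (R.subgroupOf K).map (j : ↥K →* ↥(K.map H.subtype)) =
      (R.map H.subtype).subgroupOf (K.map H.subtype) := by
    ext y
    obtain ⟨x, rfl⟩ := j.surjective y
    rw [show (j x) = (j : ↥K →* ↥(K.map H.subtype)) x from rfl, mem_map_iff_mem j.injective,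
      mem_subgroupOf, mem_subgroupOf,
      show (((j : ↥K →* ↥(K.map H.subtype)) x : ↥(K.map H.subtype)) : G) = H.subtype (x : ↥H) from rfl,
      mem_map_iff_mem H.subtype_injective]
  haveI hn : ((R.map H.subtype).subgroupOf (K.map H.subtype)).Normal := by
    rw [← he]
    exact hR.map _ j.surjective
  exact ⟨_, _, hn, ⟨(QuotientGroup.congr _ _ j he).symm.trans e⟩⟩

/-- A section of a section is a section. -/
theorem section_trans {K R : Subgroup G} [hR : (R.subgroupOf K).Normal]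
    {K₁ R₁ : Subgroup (↥K ⧸ R.subgroupOf K)} (hR₁ : (R₁.subgroupOf K₁).Normal)
    (e : (↥K₁ ⧸ R₁.subgroupOf K₁) ≃* X) :
    ∃ (K' R' : Subgroup G) (_ : (R'.subgroupOf K').Normal),
      Nonempty ((↥K' ⧸ R'.subgroupOf K') ≃* X) := by
  obtain ⟨K₂, R₂, hR₂, ⟨e₂⟩⟩ :=
    Stability.section_comap (QuotientGroup.mk' (R.subgroupOf K)) (QuotientGroup.mk'_surjective _) hR₁ e
  exact section_subgroup hR₂ e₂

/-- A group without `Qd(p)` section is `p`-stable in the normalizer form. -/
theorem stable_of_qdFree [Finite G] [Fact p.Prime] (hp : p ≠ 2)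
    (hfree : ¬ ∃ (K R : Subgroup G) (_ : (R.subgroupOf K).Normal),
      Nonempty ((↥K ⧸ R.subgroupOf K) ≃* ↥(Cfsg.qd p))) :
    Cfsg.IsNormalizerPStable p G := by
  intro P hP g hg hq
  set N := normalizer (P : Set G) with hN
  have hPN : P ≤ N := le_normalizer
  haveI : (P.subgroupOf N).Normal := (normal_subgroupOf_iff_le_normalizer hPN).2 le_rfl
  have hfreeN : ¬ ∃ (K R : Subgroup ↥N) (_ : (R.subgroupOf K).Normal),
      Nonempty ((↥K ⧸ R.subgroupOf K) ≃* ↥(Cfsg.qd p)) := by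
    rintro ⟨K, R, hR, ⟨e⟩⟩
    exact hfree (section_subgroup hR e)
  have hq' : ⁅⁅P.subgroupOf N, zpowers (⟨g, hg⟩ : ↥N)⁆, zpowers (⟨g, hg⟩ : ↥N)⁆ = ⊥ := by
    refine (map_eq_bot_iff_of_injective _ N.subtype_injective).1 ?_
    rw [map_commutator, map_commutator, MonoidHom.map_zpowers, map_subgroupOf_eq_of_le hPN]
    exact hq
  have h := (Stability.pairFree_of_qdFree hp hfreeN).isPStableOn hp (P := P.subgroupOf N)
    (hP.comap_subtype (K := N)) ⟨g, hg⟩ hq'
  have hC : centralizer ((P.subgroupOf N : Subgroup ↥N) : Set ↥N) =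
      (centralizer (P : Set G)).subgroupOf N := by
    ext x
    rw [mem_subgroupOf, mem_centralizer_iff, mem_centralizer_iff]
    constructor
    · exact fun hx y hy => congrArg Subtype.val (hx ⟨y, hPN hy⟩ hy)
    · exact fun hx y hy => Subtype.ext (hx y hy)
  haveI : ((centralizer (P : Set G)).subgroupOf N).Normal := hC ▸ inferInstance
  let e := QuotientGroup.quotientMulEquivOfEq hC
  have h2 := mem_map_of_mem e.toMonoidHom h
  exact (Cores.map_pCore_equiv (p := p) e).le h2

open EvenLocal.Qd in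
/-- `Qd(p)` is not `p`-stable. -/
theorem not_stable_qd [Fact p.Prime] : ¬ Cfsg.IsNormalizerPStable p ↥(Cfsg.qdOver (ZMod p)) := by
  intro hst
  set Q := Cfsg.qdOver (ZMod p)
  set V : Subgroup ↥Q := (lin (F := ZMod p)).ker with hV
  have hVp : IsPGroup p ↥V := fun v => ⟨1, Subtype.ext (by
    rw [pow_one]; exact pow_eq_one_of_lin (p := p) v.2)⟩
  set g : ↥Q := uniEl 1 0 0 with hg0
  have hNtop : normalizer (V : Set ↥Q) = ⊤ := normalizer_eq_top V
  have hgN : g ∈ normalizer (V : Set ↥Q) := hNtop ▸ mem_top g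
  -- the commutators of translations with unitriangular elements
  have hcom : ∀ v ∈ V, ∀ u ∈ uni (ZMod p),
      lin ⁅v, u⁆ = 1 ∧ tr ⁅v, u⁆ 1 = 0 := by
    intro v hv u hu
    have hv' : lin v⁻¹ = 1 := by rw [map_inv, show lin v = 1 from hv, inv_one]
    obtain ⟨h1, h2⟩ := conj_translation u v⁻¹ hv'
    have e : ⁅v, u⁆ = v * (u * v⁻¹ * u⁻¹) := by
      simp only [commutatorElement_def]; group
    obtain ⟨e10, -, e11⟩ := mem_uni_iff.1 hu
    refine ⟨by rw [e, map_mul, show lin v = 1 from hv, h1, one_mul], ?_⟩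
    rw [e, tr_mul, show lin v = 1 from hv, h2, tr_inv, Matrix.SpecialLinearGroup.coe_one,
      Matrix.one_mulVec, hv']
    simp [Matrix.mulVec, dotProduct, Fin.sum_univ_two, e10, e11]
  have hfix : ∀ w, lin w = 1 → tr w 1 = 0 → ∀ u ∈ uni (ZMod p), u * w = w * u := by
    intro w hw hw1 u hu
    obtain ⟨h1, h2⟩ := conj_translation u w hw
    obtain ⟨e10, e00, e11⟩ := mem_uni_iff.1 hu
    rw [← mul_inv_eq_iff_eq_mul]
    refine ext_lin_tr (h1.trans hw.symm) ?_
    rw [h2]
    ext i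
    fin_cases i <;> simp [Matrix.mulVec, dotProduct, Fin.sum_univ_two, e10, e00, e11, hw1]
  have hgu : zpowers g ≤ uni (ZMod p) := zpowers_le.2 (uniEl_mem _ _ _)
  have hq : ⁅⁅V, zpowers g⁆, zpowers g⁆ = ⊥ := by
    rw [commutator_eq_bot_iff_le_centralizer, commutator_le]
    intro v hv u hu
    obtain ⟨h1, h2⟩ := hcom v hv u (hgu hu)
    exact mem_centralizer_iff.2 fun w hw => hfix _ h1 h2 w (hgu hw)
  have h := hst V hVp g hgN hq
  have hker : (centralizer (V : Set ↥Q)).subgroupOf (normalizer (V : Set ↥Q)) ≤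
      ((lin (F := ZMod p)).comp (normalizer (V : Set ↥Q)).subtype).ker := by
    intro l hl
    refine eq_one_of_forall_mulVec fun v => ?_
    have hc := (conj_translation (l : ↥Q) (mkEl 1 v) (lin_mkEl 1 v)).2
    have h1 := mem_centralizer_iff.1 (mem_subgroupOf.1 hl) (mkEl 1 v) (lin_mkEl 1 v)
    rw [← h1, mul_inv_cancel_right, tr_mkEl] at hc
    exact hc.symm
  let ψ := QuotientGroup.lift _ ((lin (F := ZMod p)).comp (normalizer (V : Set ↥Q)).subtype) hker
  have hψ : Function.Surjective ψ := by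
    intro A
    obtain ⟨x, hx⟩ := lin_surjective A
    exact ⟨QuotientGroup.mk ⟨x, hNtop ▸ mem_top x⟩, hx⟩
  have h2 := Cores.map_pCore_le_of_surjective ψ hψ (mem_map_of_mem ψ h)
  rw [show Cfsg.pCore p (Matrix.SpecialLinearGroup (Fin 2) (ZMod p)) = ⊥ from
    sl2_normal_pGroup_eq_bot (p := p) _ Cores.pCore_isPGroup, mem_bot] at h2
  have h3 : (lin g : Matrix (Fin 2) (Fin 2) (ZMod p)) 0 1 =
      ((1 : Matrix.SpecialLinearGroup (Fin 2) (ZMod p)) : Matrix (Fin 2) (Fin 2) (ZMod p)) 0 1 :=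
    congrArg (fun A : Matrix.SpecialLinearGroup (Fin 2) (ZMod p) =>
      (A : Matrix (Fin 2) (Fin 2) (ZMod p)) 0 1) h2
  simp [hg0, uniEl, lin_mkEl] at h3

/-- `Qd(p)` is not `p`-stable. -/
theorem not_stable_qd' [Fact p.Prime] : ¬ Cfsg.IsNormalizerPStable p ↥(Cfsg.qd p) :=
  not_stable_qd

end Cfsg.Agent.LocalP.QdStab
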