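import Cfsg.Agent.LocalP.ThompsonWC
import Cfsg.Agent.EvenLocal.Involved

/-!
The weak closure theorem for central elements of `N(J(S))`.
-/

set_option autoImplicit false

open scoped commutatorElement

namespace Cfsg.Agent.LocalP

open Cfsg.Agent.Fusion Cfsg.Agent.CF

universe u

variable {G : Type u} [Group G] [Finite G] {p : ℕ} [hp : Fact p.Prime]

theorem wc_thompson_odd (hp2 : p ≠ 2) (S : Sylow p G) {x : G} (hxS : x ∈ (S : Subgroup G))
    (hx : x ∈ Subgroup.centralizer
      ((Nz (Cfsg.thompsonSubgroupAOf (S : Subgroup G)) : Subgroup G) : Set G)) :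
    ∀ g : G, g * x * g⁻¹ ∈ (S : Subgroup G) → g * x * g⁻¹ = x := by
  intro g hg
  refine wc_elements (p := p) (isConjugacyFunctor_thompsonA (p := p))
    (fun P _ => center_le_thompsonA P) ?_ (isSyl_sylow S) hxS
    (Subgroup.centralizer_le (SetLike.coe_subset_coe.mpr inf_le_right) hx) g (Subgroup.mem_top g) hg
  intro H T hTH hTp hidx hn
  obtain ⟨g, hgT, hgQ, hq⟩ := exists_quadratic_local hTH hTp hidx hn
  refine ⟨g, hgT, hgQ, fun U V hUV hU => ?_⟩
  haveI : V.Normal := hUV.2.2.1
  set g' : H := ⟨g, hTH hgT⟩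
  rw [show g = H.subtype g' from rfl, ← MonoidHom.map_zpowers,
    ← map_iterCommutator, Subgroup.map_le_map_iff_of_injective H.subtype_injective]
  refine iterCommutator_le_of_le (m := 2) ?_ ?_
  · have := hp.out.two_le
    omega
  · rw [← Subgroup.map_le_map_iff_of_injective H.subtype_injective, map_iterCommutator,
      MonoidHom.map_zpowers]
    show ⁅⁅U.map H.subtype, Subgroup.zpowers g⁆, Subgroup.zpowers g⁆ ≤ _
    exact (Subgroup.commutator_mono (Subgroup.commutator_mono hU le_rfl) le_rfl).trans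
      (hq.le.trans bot_le)

theorem wc_thompson_power (S : Sylow p G) {x : G}
    (hx : x ∈ Subgroup.centralizer
      ((Nz (Cfsg.thompsonSubgroupAOf (S : Subgroup G)) : Subgroup G) : Set G))
    (hz : ∃ z ∈ (S : Subgroup G) ⊓ Subgroup.centralizer ((S : Subgroup G) : Set G), z ^ p = x) :
    ∀ g : G, g * x * g⁻¹ ∈ (S : Subgroup G) → g * x * g⁻¹ = x := by
  obtain ⟨z, hz, rfl⟩ := hz
  exact (wc_powers_result S _ (isConjugacyFunctor_thompsonA (p := p))
    (fun P _ => center_le_thompsonA P)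
    (fun H T hTH hTp hidx hn => exists_quadratic_local hTH hTp hidx hn) _ rfl).1 _
    ⟨Subgroup.subset_closure ⟨z, hz, rfl⟩, hx⟩

theorem wc_thompson_two {G : Type u} [Group G] [Finite G] [Fact (Nat.Prime 2)]
    (hfree : ¬ Cfsg.Involves (Equiv.Perm (Fin 4)) G) (S : Sylow 2 G) {x : G}
    (hxS : x ∈ (S : Subgroup G))
    (hx : x ∈ Subgroup.centralizer
      ((Nz (Cfsg.thompsonSubgroupAOf (S : Subgroup G)) : Subgroup G) : Set G)) :
    ∀ g : G, g * x * g⁻¹ ∈ (S : Subgroup G) → g * x * g⁻¹ = x := by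
  intro g hg
  have hW := isConjugacyFunctor_thompsonA (X := G) (p := 2)
  set A := Subgroup.zpowers x with hA
  have hCA : Subgroup.centralizer (A : Set G) = Subgroup.centralizer ({x} : Set G) := by
    rw [hA, Subgroup.zpowers_eq_closure, Subgroup.centralizer_closure]
  set M := Subgroup.centralizer (A : Set G) with hM
  have hMA : M ≤ Nz A := fun m hm => mem_Nz.mpr ((cj_congr (g' := 1) fun d hd => by
    rw [← Subgroup.mem_centralizer_iff.mp hm d hd]; group).trans (cj_one A))
  have hN : Nz (Cfsg.thompsonSubgroupAOf (S : Subgroup G)) ≤ M := fun y hy => by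
    rw [hCA, Subgroup.mem_centralizer_singleton_iff]
    exact (Subgroup.mem_centralizer_iff.mp hx y hy)
  have hxZ : x ∈ zed (S : Subgroup G) := ⟨hxS, Subgroup.centralizer_le (SetLike.coe_subset_coe.mpr
    (Subgroup.le_normalizer.trans (normalizer_le_Nz_W hW S.2))) hx⟩
  have hpow : PowIn 1 A (S : Subgroup G) := by
    intro a ha
    obtain ⟨k, rfl⟩ := ha
    exact ⟨x ^ k, zpow_mem hxZ k, pow_one _⟩
  have key := wc_induction hW (fun P _ => center_le_thompsonA P) (e := 1) (A := A) (M := M)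
    le_rfl hMA ?_ ⊤ (S : Subgroup G) (isSyl_sylow S) hpow (inf_le_right.trans hN) g
    (Subgroup.mem_top g) (by
      show (Subgroup.zpowers x).map (MulAut.conj g).toMonoidHom ≤ (S : Subgroup G)
      rw [MonoidHom.map_zpowers]
      exact Subgroup.zpowers_le.mpr hg)
  · rw [← Subgroup.mem_centralizer_iff.mp key x (Subgroup.mem_zpowers x)]
    group
  intro H T hnN hpow' hAH hAQ hover
  have hxH : x ∈ H := hAH (Subgroup.mem_zpowers x)
  set y : H := ⟨x, hxH⟩
  have heq : M.subgroupOf H = Subgroup.centralizer ({y} : Set H) := by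
    ext z
    rw [Subgroup.mem_subgroupOf, hCA, Subgroup.mem_centralizer_singleton_iff,
      Subgroup.mem_centralizer_singleton_iff]
    exact ⟨fun h => Subtype.ext h, fun h => congrArg Subtype.val h⟩
  have hyT : y ∈ zed (T : Subgroup H) := hpow'.le_zed (Subgroup.mem_zpowers x)
  have hyQ : y ∈ Cfsg.pCore 2 H := hAQ (Subgroup.mem_zpowers x)
  have hJmap := Modules.map_thompsonSubgroupAOf H.subtype_injective (T : Subgroup H)
  have hJn : Nz (Cfsg.thompsonSubgroupAOf (T : Subgroup H)) ≠ ⊤ := by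
    intro h
    apply hnN
    rw [← hJmap]
    intro z hz
    exact (mem_Nz_map (x := (⟨z, hz⟩ : H))).1 (h ▸ Subgroup.mem_top _)
  have hNT : Nz (Cfsg.thompsonSubgroupAOf (T : Subgroup H)) ≤ Subgroup.centralizer ({y} : Set H) :=
    heq ▸ hover _ (Subgroup.le_normalizer.trans
      (normalizer_le_Nz_W isConjugacyFunctor_thompsonA T.2)) hJn
  have hy2 : ∀ h : H, h * (y * y) * h⁻¹ = y * y := fun h => by
    refine wc_thompson_power T ?_ ⟨y, hyT, sq y⟩ h
      (Cores.pCore_le_sylow T ((inferInstance : (Cfsg.pCore 2 H).Normal).conj_mem _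
        (mul_mem hyQ hyQ) h))
    rw [Subgroup.mem_centralizer_iff]
    intro n hn
    have : Commute n y := Subgroup.mem_centralizer_singleton_iff.1 (hNT hn)
    exact (this.mul_right this).eq
  obtain ⟨B, hB, hBQ⟩ := exists_maxAb_not_le_core (p := 2) (H := (⊤ : Subgroup H))
    (T := (T : Subgroup H)) (by rw [pCoreOf_top]; exact Cores.pCore_le_sylow T)
    (fun h => hJn (top_le_iff.1 h))
  rw [pCoreOf_top] at hBQ
  have hfreeH : ¬ Cfsg.Involves (Equiv.Perm (Fin 4)) H := fun h =>
    hfree (EvenLocal.involves_subgroup h)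
  have htop := eq_top_of_trace_two hfreeH T hyT hyQ hy2 (fun K hK hK' => heq ▸ hover K hK hK') hB hBQ
  intro z hz
  have : (⟨z, hz⟩ : H) ∈ M.subgroupOf H := by rw [heq, htop]; exact Subgroup.mem_top _
  exact this

theorem wc_thompson (S : Sylow p G) {x : G} (hxS : x ∈ (S : Subgroup G))
    (hx : x ∈ Subgroup.centralizer
      ((Nz (Cfsg.thompsonSubgroupAOf (S : Subgroup G)) : Subgroup G) : Set G))
    (h : p ≠ 2 ∨ (∃ z ∈ (S : Subgroup G) ⊓ Subgroup.centralizer ((S : Subgroup G) : Set G),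
      z ^ p = x) ∨ ¬ Cfsg.Involves (Equiv.Perm (Fin 4)) G) :
    ∀ g : G, g * x * g⁻¹ ∈ (S : Subgroup G) → g * x * g⁻¹ = x := by
  by_cases hp2 : p = 2
  · subst hp2
    rcases h with h | h | h
    · exact absurd rfl h
    · exact wc_thompson_power S hx h
    · exact wc_thompson_two h S hxS hx
  · exact wc_thompson_odd hp2 S hxS hx

end Cfsg.Agent.LocalP
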