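import Cfsg.Agent.EvenLocal.InvolvedS4
import Cfsg.Agent.LAE62.OddInverted
import Cfsg.Agent.Modules.Fixed

/-!
A transvection outside the 2-core of the acting group produces a section isomorphic to `S₄`.
-/

set_option autoImplicit false

namespace Cfsg.Agent.LocalP

open Subgroup

variable {X : Type*} [Group X] [Finite X]

omit [Finite X] in
theorem eq_one_of_sq_of_odd {u : X} (h2 : u * u = 1) {m : ℕ} (hm : Odd m) (h : u ^ m = 1) :
    u = 1 := by
  obtain ⟨j, rfl⟩ := hm
  rwa [pow_succ, pow_mul, sq, h2, one_pow, one_mul] at h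

/-- An element of `V` is fixed by an element of odd order modulo `C(V)` which fixes it modulo a
fixed subgroup of involutions. -/
theorem fix_of_fix_mod {g v u : X} (hu : g * v * g⁻¹ = v * u) (hgu : g * u * g⁻¹ = u)
    (hu2 : u * u = 1) {m : ℕ} (hm : Odd m) (hgm : g ^ m * v * (g ^ m)⁻¹ = v) :
    g * v * g⁻¹ = v := by
  have hn : ∀ n : ℕ, g ^ n * v * (g ^ n)⁻¹ = v * u ^ n := by
    intro n
    induction n with
    | zero => simp
    | succ n ih =>
      calc g ^ (n + 1) * v * (g ^ (n + 1))⁻¹ = g * (g ^ n * v * (g ^ n)⁻¹) * g⁻¹ := by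
            rw [pow_succ']; group
        _ = (g * v * g⁻¹) * (g * u * g⁻¹) ^ n := by rw [ih, conj_pow]; group
        _ = v * u ^ (n + 1) := by rw [hgu, hu, mul_assoc, ← pow_succ']
  have h1 := hn m
  rw [hgm, left_eq_mul] at h1
  rw [hu, eq_one_of_sq_of_odd hu2 hm h1, mul_one]

/-- A transvection outside the 2-core modulo `C(V)` gives an `S₄` section. -/
theorem involves_of_transvection {V : Subgroup X} [V.Normal] (hV : IsElementaryAbelian 2 V)
    {b : X} (hidx : (V ⊓ centralizer ({b} : Set X)).relIndex V ≤ 2)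
    (hb : QuotientGroup.mk' (centralizer (V : Set X)) b ∉
      Cfsg.pCore 2 (X ⧸ centralizer (V : Set X))) :
    Cfsg.Involves (Equiv.Perm (Fin 4)) X := by
  haveI : Fact (Nat.Prime 2) := ⟨Nat.prime_two⟩
  set C := centralizer (V : Set X) with hC
  haveI : C.Normal := by rw [hC]; infer_instance
  set π := QuotientGroup.mk' C with hπ
  have hπ1 : ∀ g : X, π g = 1 ↔ g ∈ C := fun g => QuotientGroup.eq_one_iff g
  set W := V ⊓ centralizer ({b} : Set X) with hW
  have hfixW : ∀ w ∈ W, b * w * b⁻¹ = w := fun w hw => by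
    rw [← mem_centralizer_singleton_iff.1 hw.2, mul_inv_cancel_right]
  have hmemW : ∀ v ∈ V, b * v * b⁻¹ = v → v ∈ W := fun v hv h =>
    ⟨hv, mem_centralizer_singleton_iff.2 (mul_inv_eq_iff_eq_mul.1 h).symm⟩
  have hsq : ∀ v ∈ V, v * v = 1 := fun v hv => by rw [← sq]; exact hV.2 v hv
  -- `b²` centralizes `V`
  have hb2 : b * b ∈ C := by
    refine mem_centralizer_iff.2 fun v hv => ?_
    set w := v⁻¹ * (b * v * b⁻¹) with hw
    have hbv : b * v * b⁻¹ = v * w := by rw [hw]; group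
    have hwW : w ∈ W := by
      by_cases hvW : v ∈ W
      · rw [hw, hfixW v hvW, inv_mul_cancel]; exact one_mem W
      have hbvW : b * v * b⁻¹ ∉ W := fun h => hvW (hmemW v hv (mul_left_cancel (mul_right_cancel
        (show b * (b * v * b⁻¹) * b⁻¹ = b * v * b⁻¹ from hfixW _ h))))
      have hVn : b * v * b⁻¹ ∈ V := (inferInstance : V.Normal).conj_mem v hv b
      have hWn : (W.subgroupOf V).index ≤ 2 := hidx
      have key := hWn
      rcases Nat.le_one_iff_eq_zero_or_eq_one.1 (show (W.subgroupOf V).index - 1 ≤ 1 by omega)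
        with h | h
      · have h1 : W.relIndex V = 1 := by
          have := (W.subgroupOf V).index_ne_zero_of_finite
          show (W.subgroupOf V).index = 1
          omega
        exact absurd (Subgroup.relIndex_eq_one.1 h1 hv) hvW
      · have h2 : (W.subgroupOf V).index = 2 := by omega
        have := (Subgroup.mul_mem_iff_of_index_two h2 (a := (⟨v, hv⟩ : V)⁻¹)
          (b := ⟨_, hVn⟩)).2 (by
            simp only [mem_subgroupOf, InvMemClass.coe_inv, inv_mem_iff]
            exact iff_of_false hvW hbvW)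
        simpa [mem_subgroupOf, hw] using this
    have : b * b * v * (b * b)⁻¹ = v := by
      calc b * b * v * (b * b)⁻¹ = b * (b * v * b⁻¹) * b⁻¹ := by group
        _ = b * (v * w) * b⁻¹ := by rw [← hbv]
        _ = (b * v * b⁻¹) * (b * w * b⁻¹) := by group
        _ = v * (w * w) := by rw [hfixW w hwW, hbv, mul_assoc]
        _ = v := by rw [hsq w hwW.1, mul_one]
    exact (mul_inv_eq_iff_eq_mul.1 this).symm
  obtain ⟨h', hh'1, hh'odd, hh'inv⟩ :=
    LAE62.exists_odd_inverted (v := π b) (by rw [← map_mul]; exact (hπ1 _).2 hb2) hb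
  obtain ⟨h, rfl⟩ := QuotientGroup.mk'_surjective C h'
  set m := orderOf (π h) with hm
  have hhm : h ^ m ∈ C := (hπ1 _).1 (by rw [map_pow]; exact pow_orderOf_eq_one _)
  obtain ⟨s, hs⟩ := hh'odd
  -- `h` is, modulo `C`, a product of two conjugates of `b`
  set k := h ^ (s + 1) with hk
  have hkk : π h = π b * ((π k)⁻¹ * π b * π k) := by
    have h1 : π b * (π k)⁻¹ * (π b)⁻¹ = π k := by
      rw [hk, map_pow, ← inv_pow, ← conj_pow]
      congr 1
      calc π b * (π h)⁻¹ * (π b)⁻¹ = (π b * π h * (π b)⁻¹)⁻¹ := by group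
        _ = π h := by rw [hh'inv, inv_inv]
    calc π h = π k * π k := by
          rw [hk, map_pow, ← pow_add, show s + 1 + (s + 1) = orderOf (π h) + 1 by omega, pow_succ,
            pow_orderOf_eq_one, one_mul]
      _ = π b * (π k)⁻¹ * (π b)⁻¹ * π k := by rw [h1]
      _ = π b * ((π k)⁻¹ * π b * π k) := by
          have : (π b)⁻¹ = π b := inv_eq_of_mul_eq_one_right
            (by rw [← map_mul]; exact (hπ1 _).2 hb2)
          rw [this]; group
  set b₂ := k⁻¹ * b * k with hb₂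
  set W₂ := V ⊓ centralizer ({b₂} : Set X) with hW₂
  have hfixW₂ : ∀ w ∈ W₂, b₂ * w * b₂⁻¹ = w := fun w hw => by
    rw [← mem_centralizer_singleton_iff.1 hw.2, mul_inv_cancel_right]
  set U := W ⊓ W₂ with hU
  have hhU : ∀ u ∈ U, h * u * h⁻¹ = u := by
    intro u hu
    have hc : (b * b₂)⁻¹ * h ∈ C := (hπ1 _).1 (by
      rw [hb₂, map_mul, map_inv, map_mul, map_mul, map_mul, map_inv, ← hkk, inv_mul_cancel])
    have h1 : (b * b₂)⁻¹ * h * u * ((b * b₂)⁻¹ * h)⁻¹ = u := by
      rw [← mem_centralizer_iff.1 hc u hu.1.1, mul_inv_cancel_right]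
    calc h * u * h⁻¹ = b * (b₂ * ((b * b₂)⁻¹ * h * u * ((b * b₂)⁻¹ * h)⁻¹) * b₂⁻¹) * b⁻¹ := by
          group
      _ = u := by rw [h1, hfixW₂ u hu.2, hfixW u hu.1]
  have hUidx : U.relIndex V ≤ 4 := by
    have h2 : W₂.relIndex V = W.relIndex V := by
      have e : W₂ = W.map (MulAut.conj k⁻¹).toMonoidHom := by
        ext y
        simp only [hW₂, hW, Subgroup.mem_inf, Subgroup.mem_map, MulEquiv.coe_toMonoidHom,
          MulAut.conj_apply, inv_inv, mem_centralizer_singleton_iff, hb₂]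
        constructor
        · rintro ⟨hy, hyc⟩
          refine ⟨k * y * k⁻¹, ⟨(inferInstance : V.Normal).conj_mem y hy k, ?_⟩, by group⟩
          calc k * y * k⁻¹ * b = k * (y * (k⁻¹ * b * k)) * k⁻¹ := by group
            _ = k * (k⁻¹ * b * k * y) * k⁻¹ := by rw [hyc]
            _ = b * (k * y * k⁻¹) := by group
        · rintro ⟨z, ⟨hz, hzc⟩, rfl⟩
          refine ⟨by simpa using (inferInstance : V.Normal).conj_mem z hz k⁻¹, ?_⟩
          calc k⁻¹ * z * k * (k⁻¹ * b * k) = k⁻¹ * (z * b) * k := by group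
            _ = k⁻¹ * b * k * (k⁻¹ * z * k) := by rw [hzc]; group
      have hVk : V.map (MulAut.conj k⁻¹).toMonoidHom = V :=
        mem_normalizer_iff_map_conj_eq.1 (by rw [normalizer_eq_top (H := V)]; exact mem_top _)
      conv_lhs => rw [e, ← hVk]
      rw [Subgroup.relIndex_map_map_of_injective _ _ (MulEquiv.injective _)]
    calc U.relIndex V ≤ W.relIndex V * W₂.relIndex V := Subgroup.relIndex_inf_le
      _ ≤ 2 * 2 := Nat.mul_le_mul hidx (h2 ▸ hidx)
      _ = 4 := rfl
  haveI : ((U.subgroupOf V)).Normal := by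
    haveI := hV.1
    infer_instance
  have hcm : ∀ v ∈ V, ∀ (d : ℕ), (h ^ d * v * (h ^ d)⁻¹)⁻¹ * v ∈ U →
      h ^ d * v * (h ^ d)⁻¹ = v := by
    intro v hv d hd
    have hdU : ∀ u ∈ U, h ^ d * u * (h ^ d)⁻¹ = u := by
      intro u hu
      have hcu : Commute h u := (mul_inv_eq_iff_eq_mul.1 (hhU u hu))
      rw [(hcu.pow_left d).eq, mul_inv_cancel_right]
    have hu : (v⁻¹ * (h ^ d * v * (h ^ d)⁻¹)) ∈ U := by
      have := U.inv_mem hd
      rwa [mul_inv_rev, inv_inv] at this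
    refine fix_of_fix_mod (u := v⁻¹ * (h ^ d * v * (h ^ d)⁻¹)) (by group)
      (hdU _ hu) (hsq _ hu.1.1) ⟨s, hs⟩ ?_
    have : (h ^ d) ^ m ∈ C := by rw [← pow_mul, mul_comm, pow_mul]; exact C.pow_mem hhm d
    rw [← mem_centralizer_iff.1 this v hv, mul_inv_cancel_right]
  have hh3 : h ^ 3 ∈ C := by
    refine mem_centralizer_iff.2 fun v hv => ?_
    suffices h ^ 3 * v * (h ^ 3)⁻¹ = v from (mul_inv_eq_iff_eq_mul.1 this).symm
    by_cases hvU : v ∈ U
    · have hcu : Commute h v := (mul_inv_eq_iff_eq_mul.1 (hhU v hvU))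
      rw [(hcu.pow_left 3).eq, mul_inv_cancel_right]
    let Q := ↥V ⧸ U.subgroupOf V
    have hVc : ∀ i : ℕ, h ^ i * v * (h ^ i)⁻¹ ∈ V := fun i =>
      (inferInstance : V.Normal).conj_mem v hv _
    have hne : ∀ i : Fin 4, ((⟨_, hVc i⟩ : V) : Q) ≠ 1 := by
      intro i hi
      rw [QuotientGroup.eq_one_iff, mem_subgroupOf] at hi
      change h ^ (i : ℕ) * v * (h ^ (i : ℕ))⁻¹ ∈ U at hi
      have hcu : Commute h (h ^ (i : ℕ) * v * (h ^ (i : ℕ))⁻¹) :=
        mul_inv_eq_iff_eq_mul.1 (hhU _ hi)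
      have e := (hcu.pow_left (i : ℕ)).eq
      refine hvU ?_
      have e2 : h ^ (i : ℕ) * v * (h ^ (i : ℕ))⁻¹ = v := by
        have := congrArg (fun z => (h ^ (i : ℕ))⁻¹ * z) e
        simp only [inv_mul_cancel_left] at this
        calc h ^ (i : ℕ) * v * (h ^ (i : ℕ))⁻¹
            = (h ^ (i : ℕ))⁻¹ * (h ^ (i : ℕ) * v * (h ^ (i : ℕ))⁻¹ * h ^ (i : ℕ)) := this
          _ = v := by group
      rwa [e2] at hi
    haveI : Fintype {q : Q // q ≠ 1} := Fintype.ofFinite _
    have hcard : Fintype.card {q : Q // q ≠ 1} < Fintype.card (Fin 4) := by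
      classical
      haveI : Fintype Q := Fintype.ofFinite _
      rw [Fintype.card_fin, Fintype.card_subtype_compl, Fintype.card_subtype_eq,
        ← Nat.card_eq_fintype_card]
      have : Nat.card Q ≤ 4 := hUidx
      omega
    obtain ⟨i, j, hij, he⟩ := Fintype.exists_ne_map_eq_of_card_lt
      (fun i : Fin 4 => (⟨_, hne i⟩ : {q : Q // q ≠ 1})) hcard
    replace he := QuotientGroup.eq.1 (congrArg Subtype.val he)
    rw [mem_subgroupOf] at he
    wlog hlt : (j : ℕ) < (i : ℕ) generalizing i j with H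
    · refine H j i hij.symm ?_ (by omega)
      have := U.inv_mem he
      simpa [mul_assoc] using this
    change (h ^ (i : ℕ) * v * (h ^ (i : ℕ))⁻¹)⁻¹ * (h ^ (j : ℕ) * v * (h ^ (j : ℕ))⁻¹) ∈ U at he
    obtain ⟨d, hd⟩ := Nat.exists_eq_add_of_lt hlt
    set z := h ^ (j : ℕ) * v * (h ^ (j : ℕ))⁻¹ with hz
    have hzd : h ^ (i : ℕ) * v * (h ^ (i : ℕ))⁻¹ = h ^ (d + 1) * z * (h ^ (d + 1))⁻¹ := by
      rw [hz, show (i : ℕ) = (d + 1) + j by omega, pow_add]; group
    rw [hzd] at he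
    have hfix := hcm z (hVc j) (d + 1) he
    have hcz : Commute (h ^ (d + 1)) z := mul_inv_eq_iff_eq_mul.1 hfix
    have hd1 : Commute (h ^ (d + 1)) v := by
      have hcj : Commute (h ^ (d + 1)) (h ^ (j : ℕ)) := (Commute.refl h).pow_pow _ _
      have := ((hcj.inv_right.mul_right hcz).mul_right hcj)
      rwa [show (h ^ (j : ℕ))⁻¹ * z * h ^ (j : ℕ) = v by rw [hz]; group] at this
    have hd3 : d + 1 = 1 ∨ d + 1 = 2 ∨ d + 1 = 3 := by have := i.isLt; omega
    have : Commute (h ^ 3) v := by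
      rcases hd3 with e | e | e <;> rw [e] at hd1
      · simpa using hd1.pow_left 3
      · have hm1 : Commute (h ^ m) v := (mem_centralizer_iff.1 hhm v hv).symm
        have h2 : Commute (h ^ (2 * (s + 1))) v := by rw [pow_mul]; exact hd1.pow_left _
        rw [show 2 * (s + 1) = m + 1 by omega, pow_succ'] at h2
        have h3 : Commute h v := by
          have := h2.mul_left hm1.inv_left
          rwa [mul_inv_cancel_right] at this
        exact h3.pow_left 3
      · exact hd1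
    rw [this.eq, mul_inv_cancel_right]
  have ho3 : orderOf (π h) = 3 :=
    ((Nat.dvd_prime Nat.prime_three).1 (orderOf_dvd_of_pow_eq_one
      (by rw [← map_pow]; exact (hπ1 _).2 hh3))).resolve_left
      fun e => hh'1 (orderOf_eq_one_iff.1 e)
  obtain ⟨x, y, hx, ⟨e, he⟩, hxy, hy1⟩ :=
    EvenLocal.exists_inverted_of_map (p := 3) (by omega) π (QuotientGroup.mk'_surjective C)
      (a := π b) (b := π h) ⟨1, by rw [ho3, pow_one]⟩ hh'1 hh'inv
  -- pass to a power of `y` whose cube centralizes `V`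
  have hex : ∃ i, π (y ^ 3 ^ i) = 1 := ⟨e, by rw [← he, pow_orderOf_eq_one, map_one]⟩
  classical
  obtain ⟨i, hi, hi'⟩ : ∃ i, π (y ^ 3 ^ i) ≠ 1 ∧ π (y ^ 3 ^ (i + 1)) = 1 := by
    have h0 : Nat.find hex ≠ 0 := fun h0 => hy1 (by
      have := Nat.find_spec hex; rwa [h0, pow_zero, pow_one] at this)
    refine ⟨Nat.find hex - 1, Nat.find_min hex (by omega), ?_⟩
    rw [Nat.sub_add_cancel (by omega)]; exact Nat.find_spec hex
  have hN : ∀ g : X, g ∈ normalizer (V : Set X) := fun g => by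
    rw [normalizer_eq_top (H := V)]; exact mem_top g
  refine EvenLocal.involves_perm_four hV (x := x) (y := y ^ 3 ^ i) (hN x) (hN _) hx ?_ ?_ ?_
    fun hc => hi ((hπ1 _).2 hc)
  · obtain ⟨l, -, hl⟩ := (Nat.dvd_prime_pow Nat.prime_three).1
      (show orderOf (y ^ 3 ^ i) ∣ 3 ^ e from he ▸ orderOf_pow_dvd _)
    exact ⟨l, hl⟩
  · rw [← conj_pow, hxy, inv_pow]
  · rw [← pow_mul, ← pow_succ]; exact (hπ1 _).1 hi'

end Cfsg.Agent.LocalP
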