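import Cfsg.Agent.LocalP.Basic
import Cfsg.Agent.LocalP.TransvectionS4
import Cfsg.Agent.CF.WeakClosureInd
import Cfsg.Agent.CF.PowerWC
import Cfsg.Agent.Modules.Thompson
import Cfsg.Agent.Modules.Replacement
import Cfsg.Agent.LocalEven.CoprimeLemmas

/-!
Weak closure of central elements relative to the Thompson subgroup (abelian version): the
quadratic local step, and for `p = 2` the trace step in groups free of `S₄`.
-/

set_option autoImplicit false

open scoped commutatorElement IsMulCommutative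

namespace Cfsg.Agent.LocalP

open Cfsg.Agent.Fusion Cfsg.Agent.CF

variable {X : Type*} [Group X] [Finite X] {p : ℕ} [hp : Fact p.Prime]

theorem isConjugacyFunctor_thompsonA :
    Cfsg.IsConjugacyFunctor p (Cfsg.thompsonSubgroupAOf (G := X)) := fun P hP =>
  ⟨Modules.thompsonSubgroupAOf_le P, fun hne h => Modules.centerThompsonAOf_ne_bot hP hne
    (eq_bot_iff.2 (inf_le_left.trans h.le)),
    fun g => (Modules.conj_thompsonSubgroupAOf g P).symm⟩

omit hp in
theorem center_le_thompsonA (P : Subgroup X) :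
    P ⊓ Subgroup.centralizer (P : Set X) ≤ Cfsg.thompsonSubgroupAOf P :=
  (Modules.center_le_centerThompsonAOf P).trans inf_le_left

omit hp in
/-- If `H` does not normalize `J(T)`, some member of the largest abelian subgroups of `T` avoids
the core of `H`. -/
theorem exists_maxAb_not_le_core {H T : Subgroup X} (hQT : Cfsg.pCoreOf p H ≤ T)
    (hn : ¬ H ≤ Subgroup.normalizer (Cfsg.thompsonSubgroupAOf T : Set X)) :
    ∃ A ∈ Modules.maxAbIn T, ¬ A ≤ Cfsg.pCoreOf p H := by
  by_contra hno
  push Not at hno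
  apply hn
  rw [← Modules.thompsonSubgroupAOf_eq_of_le hQT
    (Modules.thompsonSubgroupAOf_eq_sSup T ▸ sSup_le hno)]
  exact (le_normalizer_pCoreOf H).trans (Modules.normalizer_le_normalizer_thompsonSubgroupAOf _)

/-- Some element outside the core acts quadratically on the centre of the core. -/
theorem exists_quadratic_local {H T : Subgroup X} (hTH : T ≤ H) (hTp : IsPGroup p T)
    (hidx : ¬ p ∣ T.relIndex H)
    (hn : ¬ H ≤ Subgroup.normalizer (Cfsg.thompsonSubgroupAOf T : Set X)) :
    ∃ g : X, g ∈ T ∧ g ∉ Cfsg.pCoreOf p H ∧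
      ⁅⁅Cfsg.pCoreOf p H ⊓ Subgroup.centralizer ((Cfsg.pCoreOf p H : Subgroup X) : Set X),
        Subgroup.zpowers g⁆, Subgroup.zpowers g⁆ = ⊥ := by
  have hQT : Cfsg.pCoreOf p H ≤ T :=
    (IsSyl.eq_of_le (U := T ⊔ Cfsg.pCoreOf p H) ⟨hTH, hTp, hidx⟩
      (hTp.to_sup_of_normal_right' (pCoreOf_isPGroup H) (hTH.trans (le_normalizer_pCoreOf H)))
      le_sup_left (sup_le hTH (pCoreOf_le H))) ▸ le_sup_right
  obtain ⟨A, hA, hAQ⟩ := exists_maxAb_not_le_core hQT hn
  set Q := Cfsg.pCoreOf p H
  set Z := Q ⊓ Subgroup.centralizer (Q : Set X) with hZ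
  have hZc : IsMulCommutative Z :=
    Modules.comm_iff.mpr fun a ha b hb => Subgroup.mem_centralizer_iff.mp hb.2 a ha.1
  have hQN : H ≤ Subgroup.normalizer (Z : Set X) :=
    (le_inf (le_normalizer_pCoreOf H)
      (((le_normalizer_pCoreOf H).trans (Modules.normalizes_centralizer le_rfl)))).trans
      Subgroup.inf_normalizer_le_normalizer_inf
  have hAN : A ≤ Subgroup.normalizer (Z : Set X) := (hA.1.trans hTH).trans hQN
  have hZT : Z ≤ T := inf_le_left.trans hQT
  obtain ⟨hA', hquad⟩ := Modules.ab_replacement hA hZc hZT hAN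
  set A' := ⁅Z, A⁆ ⊔ (A ⊓ Subgroup.centralizer ((⁅Z, A⁆ : Subgroup X) : Set X))
  have finish : ∀ B ∈ Modules.maxAbIn T, ¬ B ≤ Q → ⁅⁅Z, B⁆, B⁆ = ⊥ →
      ∃ g : X, g ∈ T ∧ g ∉ Q ∧ ⁅⁅Z, Subgroup.zpowers g⁆, Subgroup.zpowers g⁆ = ⊥ := by
    intro B hB hBQ hq
    obtain ⟨g, hgB, hgQ⟩ := SetLike.not_le_iff_exists.1 hBQ
    exact ⟨g, hB.1 hgB, hgQ, le_bot_iff.1 ((Subgroup.commutator_mono
      (Subgroup.commutator_mono le_rfl (Subgroup.zpowers_le.2 hgB))
      (Subgroup.zpowers_le.2 hgB)).trans hq.le)⟩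
  by_cases hA'Q : A' ≤ Q
  swap
  · exact finish A' hA' hA'Q hquad
  -- now `Z ≤ A'`, so `A` centralises `Z`
  refine finish A hA hAQ ?_
  have hZA' : Z ≤ A' := fun z hz => Modules.mem_maxAbIn_of_centralizing hA' (hZT hz)
    (Subgroup.centralizer_le hA'Q hz.2)
  set K := ⁅Z, A⁆ with hK
  have hKZ : K ≤ Z := Modules.commutator_le_of_normalizes hAN
  suffices hKb : K = ⊥ by rw [hKb]; exact le_bot_iff.1 (by simp)
  by_contra hKne
  have hKN : A ≤ Subgroup.normalizer (K : Set X) := fun a ha => by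
    rw [Subgroup.mem_normalizer_iff_map_conj_eq, hK, Subgroup.map_commutator,
      Subgroup.mem_normalizer_iff_map_conj_eq.1 (hAN ha),
      Subgroup.mem_normalizer_iff_map_conj_eq.1 (Subgroup.le_normalizer ha)]
  have hlt := LocalEven.exists_commutator_proper (p := p) (P := K) (A := A)
    (hTp.to_le (hKZ.trans hZT)) (hTp.to_le hA.1) hKN hKne
  refine hlt.not_ge (Subgroup.commutator_le.2 fun z hz b hb => ?_)
  have hz' := hZA' hz
  rw [← SetLike.mem_coe, Subgroup.coe_mul_of_right_le_normalizer_left _ _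
    (inf_le_left.trans hKN)] at hz'
  obtain ⟨c, hc, a, ha, rfl⟩ := hz'
  have hab : Commute a b := Subgroup.mem_centralizer_iff.1 (Modules.comm_le_centralizer hA.2.1 hb) a ha.1
  have : ⁅c * a, b⁆ = ⁅c, b⁆ := by
    simp only [commutatorElement_def]
    calc c * a * b * (c * a)⁻¹ * b⁻¹ = c * (a * b * a⁻¹) * c⁻¹ * b⁻¹ := by group
      _ = c * b * c⁻¹ * b⁻¹ := by rw [hab.eq, mul_inv_cancel_right]
  rw [this]
  exact Subgroup.commutator_mem_commutator hc hb

/-! ### The trace step for `p = 2` -/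

/-- A nontrivial orbit has sum zero, when the fixed points of each maximal subgroup are fixed by
an element outside it. -/
theorem orbit_sum_zero_two {K V : Type*} [Group K] [Finite K] [AddCommGroup V]
    (ρ : K →* AddMonoid.End V) (hK : IsPGroup 2 K) (hV2 : ∀ v : V, v + v = 0)
    (hfix : ∀ L : Subgroup K, IsCoatom L →
      ∃ d ∉ L, ∀ v : V, (∀ l ∈ L, ρ l v = v) → ρ d v = v)
    {H : Subgroup K} (hH : H ≠ ⊤) [Fintype (K ⧸ H)] {f : K ⧸ H → V}
    (hf : ∀ (k : K) (q : K ⧸ H), f (k • q) = ρ k (f q)) : ∑ q, f q = 0 := by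
  classical
  haveI : Fact (Nat.Prime 2) := ⟨Nat.prime_two⟩
  obtain ⟨L, hL, hHL⟩ := (eq_top_or_exists_le_coatom H).resolve_left hH
  haveI := PGroup.normal_of_isCoatom hK hL
  have hidx : L.index = 2 := PGroup.index_of_isCoatom hK hL
  obtain ⟨d, hdL, hd⟩ := hfix L hL
  haveI : Fintype (K ⧸ L) := Fintype.ofFinite _
  let φ : K ⧸ H → K ⧸ L := Subgroup.quotientMapOfLE hHL
  have hφ : ∀ (k : K) (q : K ⧸ H), φ (k • q) = k • φ q := fun k q => by
    induction q using QuotientGroup.induction_on with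
    | _ a => rfl
  let gsum : K ⧸ L → V := fun c => ∑ q ∈ Finset.univ.filter (fun q => φ q = c), f q
  have hgs : ∀ (k : K) (c : K ⧸ L), gsum (k • c) = ρ k (gsum c) := by
    intro k c
    simp only [gsum, map_sum]
    refine Finset.sum_nbij' (fun q => k⁻¹ • q) (fun q => k • q) ?_ ?_ ?_ ?_ ?_
    · intro q hq
      simp only [Finset.mem_filter, Finset.mem_univ, true_and] at hq ⊢
      simp [hφ, hq]
    · intro q hq
      simp only [Finset.mem_filter, Finset.mem_univ, true_and] at hq ⊢
      simp [hφ, hq]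
    · intro q _; simp
    · intro q _; simp
    · intro q _; rw [← hf, smul_inv_smul]
  rw [← Finset.sum_fiberwise Finset.univ φ f]
  show ∑ c, gsum c = 0
  set u := gsum ((1 : K) : K ⧸ L) with hu
  have hLu : ∀ l ∈ L, ρ l u = u := by
    intro l hl
    rw [hu, ← hgs]
    congr 1
    show ((l * 1 : K) : K ⧸ L) = _
    rw [QuotientGroup.eq, mul_one, mul_one]
    exact inv_mem hl
  have hcases : ∀ c : K ⧸ L, c = ((1 : K) : K ⧸ L) ∨ c = ((d : K) : K ⧸ L) := by
    intro c
    induction c using QuotientGroup.induction_on with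
    | _ a =>
      by_cases ha : a ∈ L
      · left; rw [QuotientGroup.eq, mul_one]; exact inv_mem ha
      · right
        rw [QuotientGroup.eq, Subgroup.mul_mem_iff_of_index_two hidx, inv_mem_iff]
        exact iff_of_false ha hdL
  have hne : ((1 : K) : K ⧸ L) ≠ ((d : K) : K ⧸ L) := by
    rw [Ne, QuotientGroup.eq, inv_one, one_mul]; exact hdL
  rw [show (Finset.univ : Finset (K ⧸ L)) = {((1 : K) : K ⧸ L), ((d : K) : K ⧸ L)} from
    (Finset.eq_univ_iff_forall.2 fun c => by simpa using hcases c).symm, Finset.sum_pair hne]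
  have : gsum ((d : K) : K ⧸ L) = u := by
    calc gsum ((d : K) : K ⧸ L) = gsum (d • ((1 : K) : K ⧸ L)) := by
          congr 1; show _ = ((d * 1 : K) : K ⧸ L); rw [mul_one]
      _ = u := by rw [hgs]; exact hd u hLu
  rw [this]
  exact hV2 u

/-- An equivariant function with zero values at fixed points has sum zero. -/
theorem sum_zero_two {K V : Type*} [Group K] [Finite K] [AddCommGroup V]
    (ρ : K →* AddMonoid.End V) (hK : IsPGroup 2 K) (hV2 : ∀ v : V, v + v = 0)
    (hfix : ∀ L : Subgroup K, IsCoatom L →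
      ∃ d ∉ L, ∀ v : V, (∀ l ∈ L, ρ l v = v) → ρ d v = v)
    {Ω : Type*} [MulAction K Ω] [Fintype Ω] (f : Ω → V)
    (hf : ∀ (k : K) (x : Ω), f (k • x) = ρ k (f x))
    (h0 : ∀ x ∈ MulAction.fixedPoints K Ω, f x = 0) : ∑ x, f x = 0 := by
  classical
  haveI : Fintype (Quotient (MulAction.orbitRel K Ω)) := Fintype.ofFinite _
  rw [← Finset.sum_fiberwise Finset.univ
    (fun x => (Quotient.mk'' x : Quotient (MulAction.orbitRel K Ω))) f]
  refine Finset.sum_eq_zero fun ω _ => ?_
  induction ω using Quotient.inductionOn' with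
  | _ x =>
    by_cases hx : x ∈ MulAction.fixedPoints K Ω
    · refine Finset.sum_eq_zero fun y hy => h0 y ?_
      simp only [Finset.mem_filter, Finset.mem_univ, true_and] at hy
      obtain ⟨k, hk⟩ := MulAction.orbitRel_apply.mp (Quotient.eq''.mp hy)
      simp only [hx k] at hk
      exact hk ▸ hx
    · haveI : Fintype (K ⧸ MulAction.stabilizer K x) := Fintype.ofFinite _
      have hH : MulAction.stabilizer K x ≠ ⊤ := fun h => hx fun k =>
        (h ▸ Subgroup.mem_top k : k ∈ MulAction.stabilizer K x)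
      have := orbit_sum_zero_two ρ hK hV2 hfix hH
        (f := fun q => f (MulAction.ofQuotientStabilizer K x q)) (fun k q => by
          induction q using QuotientGroup.induction_on with
          | _ a => show f ((k * a) • x) = ρ k (f (a • x)); rw [mul_smul, hf])
      refine Eq.trans ?_ this
      rw [← Finset.sum_image (f := f) (g := MulAction.ofQuotientStabilizer K x)
        fun a _ b _ h => MulAction.injective_ofQuotientStabilizer K x h]
      refine Finset.sum_congr ?_ fun _ _ => rfl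
      ext y
      simp only [Finset.mem_filter, Finset.mem_univ, true_and, Finset.mem_image]
      constructor
      · intro hy
        obtain ⟨k, hk⟩ := MulAction.orbitRel_apply.mp (Quotient.eq''.mp hy)
        exact ⟨(k : K ⧸ MulAction.stabilizer K x), hk⟩
      · rintro ⟨q, rfl⟩
        induction q using QuotientGroup.induction_on with
        | _ a => exact Quotient.eq''.mpr (MulAction.orbitRel_apply.mpr ⟨a, rfl⟩)

theorem commute_of_sq_mem {Z : Subgroup X} (hZ : Z.Normal) (hZc : IsMulCommutative Z)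
    (hZ2 : IsPGroup 2 Z) {c : X} {m : ℕ} (hm : Odd m) (hcm : ∀ v ∈ Z, Commute (c ^ m) v)
    (hc : ∀ v ∈ Z, v * v = 1 → Commute c v) : ∀ v ∈ Z, Commute c v := by
  have key : ∀ k : ℕ, ∀ v ∈ Z, v ^ 2 ^ k = 1 → c * v * c⁻¹ = v := by
    intro k
    induction k with
    | zero =>
      intro v _ h
      rw [pow_zero, pow_one] at h
      simp [h]
    | succ k ih =>
      intro v hv h
      have hv2 := ih (v * v) (mul_mem hv hv) (by rw [← sq, ← pow_mul, ← pow_succ']; exact h)
      set w := v⁻¹ * (c * v * c⁻¹) with hw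
      have hwZ : w ∈ Z := mul_mem (inv_mem hv) (hZ.conj_mem v hv c)
      have hcomm : Commute (v⁻¹) (c * v * c⁻¹) :=
        Modules.comm_iff.1 hZc _ (inv_mem hv) _ (hZ.conj_mem v hv c)
      have hw2 : w * w = 1 := by
        rw [← sq, hw, hcomm.mul_pow, inv_pow, conj_pow, sq, hv2, inv_mul_cancel]
      exact fix_of_fix_mod (u := w) (by rw [hw]; group)
        (by rw [(hc w hwZ hw2).eq, mul_inv_cancel_right]) hw2 hm
        (by rw [(hcm v hv).eq, mul_inv_cancel_right])
  intro v hv
  obtain ⟨k, hk⟩ := hZ2 ⟨v, hv⟩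
  exact mul_inv_eq_iff_eq_mul.1 (key k v hv (congrArg Subtype.val hk))

/-- The final step for `p = 2`. -/
theorem eq_top_of_trace_two [h2 : Fact (Nat.Prime 2)]
    (hfree : ¬ Cfsg.Involves (Equiv.Perm (Fin 4)) X) (S : Sylow 2 X) {x : X}
    (hxS : x ∈ zed (S : Subgroup X)) (hxQ : x ∈ Cfsg.pCore 2 X)
    (hx2 : ∀ h : X, h * (x * x) * h⁻¹ = x * x)
    (hover : ∀ H : Subgroup X, (S : Subgroup X) ≤ H → H ≠ ⊤ →
      H ≤ Subgroup.centralizer ({x} : Set X))
    {A : Subgroup X} (hA : A ∈ Modules.maxAbIn (S : Subgroup X))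
    (hAQ : ¬ A ≤ Cfsg.pCore 2 X) :
    Subgroup.centralizer ({x} : Set X) = ⊤ := by
  classical
  set Q := Cfsg.pCore 2 X with hQdef
  set M := Subgroup.centralizer ({x} : Set X) with hM
  have hmemM : ∀ {h : X}, h ∈ M ↔ h * x * h⁻¹ = x := fun {h} => by
    rw [hM, Subgroup.mem_centralizer_singleton_iff, mul_inv_eq_iff_eq_mul]
  have hQS : Q ≤ (S : Subgroup X) := Cores.pCore_le_sylow S
  set Z := zed Q with hZdef
  haveI hZn : Z.Normal := by rw [hZdef]; unfold zed; infer_instance
  have hZc : IsMulCommutative Z :=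
    Modules.comm_iff.mpr fun a ha b hb => Subgroup.mem_centralizer_iff.mp hb.2 a ha.1
  have hZS : Z ≤ (S : Subgroup X) := inf_le_left.trans hQS
  have hxZ : x ∈ Z := ⟨hxQ, Subgroup.centralizer_le hQS hxS.2⟩
  have hSM : (S : Subgroup X) ≤ M := fun s hs => by
    rw [hM, Subgroup.mem_centralizer_singleton_iff]
    exact Subgroup.mem_centralizer_iff.mp hxS.2 s hs
  by_contra hne
  set V := Cfsg.omegaOne 2 Z with hVdef
  haveI hVn : V.Normal := by
    rw [← Subgroup.normalizer_eq_top_iff, eq_top_iff]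
    exact (Subgroup.normalizer_eq_top (H := Z)).ge.trans
      (Modules.normalizer_le_normalizer_omegaOne 2 _)
  have hVe : Cfsg.IsElementaryAbelian 2 V := Modules.elemAb_omegaOne hZc
  have hVZ : V ≤ Z := Modules.omegaOne_le 2 _
  set C := Subgroup.centralizer (V : Set X) with hC
  haveI : C.Normal := by rw [hC]; infer_instance
  have hQC : Q ≤ C := by
    rw [hC, Subgroup.le_centralizer_iff]
    exact hVZ.trans inf_le_right
  -- the preimage of the 2-core of `X ⧸ C`
  set π := QuotientGroup.mk' C with hπ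
  set P := (Cfsg.pCore 2 (X ⧸ C)).comap π with hP
  have hPM : P ≤ M := by
    have hsyl : IsSyl 2 ((S : Subgroup X) ⊓ P) P := (isSyl_sylow S).inf_normal le_top
      (by rw [Nz, Subgroup.normalizer_eq_top])
    rw [← resOf_sup_eq inf_le_right hsyl.idx]
    refine sup_le (resOf_le_iff_forall.2 fun c hc hco => ?_) (inf_le_left.trans hSM)
    have hcC : c ∈ C := (QuotientGroup.eq_one_iff c).1
      (eq_one_of_mem_isPGroup (Cores.pCore_isPGroup) hc (hco.coprime_dvd_left (orderOf_map_dvd π c)))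
    have hodd : Odd (orderOf c) := Nat.coprime_two_right.1 hco
    have := commute_of_sq_mem hZn hZc (Cores.pCore_isPGroup.to_le inf_le_left) hodd
      (fun v _ => by rw [pow_orderOf_eq_one]; exact Commute.one_left v)
      (fun v hv hv2 => (Subgroup.mem_centralizer_iff.1 hcC v
        (Modules.mem_omegaOne_of_pow hv (by rw [sq]; exact hv2))).symm) x hxZ
    exact hmemM.2 (by rw [this.eq, mul_inv_cancel_right])
  have hSP : (S : Subgroup X) ⊓ P ≤ Q := by
    by_contra h
    exact hne (eq_top_of_normal_le hover hPM h)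
  have hCP : C ≤ P := fun c hc => by
    show π c ∈ Cfsg.pCore 2 (X ⧸ C)
    rw [show π c = 1 from (QuotientGroup.eq_one_iff c).2 hc]
    exact one_mem _
  -- the good subgroups
  let Good : Subgroup X → Prop := fun B => B ≤ (S : Subgroup X) ∧ ¬ B ≤ Q ∧
    ∀ B' ≤ B, B'.relIndex B = 2 → V ⊓ Subgroup.centralizer (B' : Set X) ≤
      Subgroup.centralizer (B : Set X)
  have hexists : ∃ B, Good B := by
    set B0 := A ⊓ C with hB0
    have hVS : V ≤ (S : Subgroup X) := hVZ.trans hZS
    have hCA : V ⊓ Subgroup.centralizer (A : Set X) = V ⊓ A :=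
      Modules.maxAbIn_inf_centralizer' hA hVS
    have hAmem : A ≤ A ∧ B0 < A ∧ Nat.card B0 * Nat.card V ≤
        Nat.card A * Nat.card ↥(V ⊓ Subgroup.centralizer (A : Set X)) := by
      refine ⟨le_rfl, lt_of_le_of_ne inf_le_left fun h => hAQ ?_, ?_⟩
      · exact (le_inf hA.1 ((h.ge.trans inf_le_right).trans hCP)).trans hSP
      · have hVN : B0 ≤ Subgroup.normalizer (V : Set X) :=
          le_top.trans (Subgroup.normalizer_eq_top (H := V)).ge
        have h1 := Modules.card_sup_mul_card_inf (V := V) (B := B0) hVN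
        rw [sup_comm B0 V, inf_comm B0 V] at h1
        have h2 : Nat.card ↥(V ⊔ B0) ≤ Nat.card A :=
          hA.2.2 _ (sup_le hVS (inf_le_left.trans hA.1))
            (Modules.comm_sup hVe.1 (Modules.comm_mono inf_le_left hA.2.1) inf_le_right)
        have h3 : Nat.card ↥(V ⊓ B0) ≤ Nat.card ↥(V ⊓ A) :=
          Subgroup.card_le_of_le (inf_le_inf_left _ inf_le_left)
        rw [hCA]
        calc Nat.card B0 * Nat.card V = Nat.card ↥(V ⊔ B0) * Nat.card ↥(V ⊓ B0) := by
              rw [h1]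
          _ ≤ _ := Nat.mul_le_mul h2 h3
    obtain ⟨B, -, hB⟩ := (Set.toFinite {B : Subgroup X | B ≤ A ∧ B0 < B ∧
      Nat.card B0 * Nat.card V ≤
        Nat.card B * Nat.card ↥(V ⊓ Subgroup.centralizer (B : Set X))}).exists_le_minimal
        (a := A) hAmem
    obtain ⟨hBA, hB0B, hwt⟩ := hB.prop
    refine ⟨B, hBA.trans hA.1, fun h => hB0B.not_ge (le_inf hBA (h.trans hQC)), fun B' hB' hi => ?_⟩
    have hBab := Modules.comm_mono hBA hA.2.1
    rintro v ⟨hvV, hvB'⟩
    have hVB0 : V ≤ Subgroup.centralizer (B0 : Set X) := by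
      rw [Subgroup.le_centralizer_iff]; exact inf_le_right
    by_cases hsup : B0 ≤ B'
    swap
    · have hBeq : B' ⊔ B0 = B := by
        have hdvd := Subgroup.relIndex_mul_relIndex B' (B' ⊔ B0) B le_sup_left
          (sup_le hB' hB0B.le)
        rw [hi] at hdvd
        rcases (Nat.dvd_prime Nat.prime_two).1 (Dvd.intro_left _ hdvd) with h | h
        · exact le_antisymm (sup_le hB' hB0B.le) (Subgroup.relIndex_eq_one.1 h)
        · rw [h] at hdvd
          have : B'.relIndex (B' ⊔ B0) = 1 := by omega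
          exact absurd (le_sup_right.trans (Subgroup.relIndex_eq_one.1 this)) hsup
      have : B ≤ Subgroup.centralizer ({v} : Set X) := hBeq ▸ sup_le
        (fun b hb => Subgroup.mem_centralizer_singleton_iff.2
          (Subgroup.mem_centralizer_iff.1 hvB' b hb))
        (fun b hb => Subgroup.mem_centralizer_singleton_iff.2
          (Subgroup.mem_centralizer_iff.1 (hVB0 hvV) b hb))
      exact Subgroup.mem_centralizer_iff.2 fun b hb =>
        Subgroup.mem_centralizer_singleton_iff.1 (this hb)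
    have hcardB : Nat.card B = 2 * Nat.card B' := by
      rw [← hi, ← Subgroup.relIndex_bot_left, ← Subgroup.relIndex_bot_left,
        mul_comm, Subgroup.relIndex_mul_relIndex _ _ _ bot_le hB']
    have hle : V ⊓ Subgroup.centralizer (B : Set X) ≤ V ⊓ Subgroup.centralizer (B' : Set X) :=
      inf_le_inf_left _ (Subgroup.centralizer_le hB')
    rcases hsup.lt_or_eq with hlt | heq
    · have hB'lt : B' < B := lt_of_le_of_ne hB' fun h => by
        rw [h, Subgroup.relIndex_self] at hi; omega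
      have hnot : ¬ Nat.card B0 * Nat.card V ≤
          Nat.card B' * Nat.card ↥(V ⊓ Subgroup.centralizer (B' : Set X)) := fun h =>
        hB'lt.not_ge (hB.le_of_le ⟨hB'.trans hBA, hlt, h⟩ hB')
      have hmul := Subgroup.relIndex_mul_relIndex ⊥ _ _ bot_le hle
      rw [Subgroup.relIndex_bot_left, Subgroup.relIndex_bot_left] at hmul
      have h1 : (V ⊓ Subgroup.centralizer (B : Set X)).relIndex
          (V ⊓ Subgroup.centralizer (B' : Set X)) = 1 := by
        set r := (V ⊓ Subgroup.centralizer (B : Set X)).relIndex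
          (V ⊓ Subgroup.centralizer (B' : Set X))
        have hr : r ≠ 0 := Subgroup.index_ne_zero_of_finite
        by_contra hr1
        apply hnot
        rw [← hmul]
        rw [hcardB] at hwt
        calc _ ≤ _ := hwt
          _ = Nat.card B' * (Nat.card ↥(V ⊓ Subgroup.centralizer (B : Set X)) * 2) := by ring
          _ ≤ _ := Nat.mul_le_mul_left _ (Nat.mul_le_mul_left _ (by omega))
      exact (Subgroup.relIndex_eq_one.1 h1 ⟨hvV, hvB'⟩).2
    · exfalso
      obtain ⟨b, hbB, hbB0⟩ := SetLike.exists_of_lt hB0B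
      apply hfree
      refine involves_of_transvection hVe (b := b) ?_ fun hb => ?_
      · have hle2 : V ⊓ Subgroup.centralizer (B : Set X) ≤
            V ⊓ Subgroup.centralizer ({b} : Set X) :=
          inf_le_inf_left _ (Subgroup.centralizer_le (Set.singleton_subset_iff.2 hbB))
        refine le_trans (Nat.le_of_dvd (Nat.pos_of_ne_zero Subgroup.index_ne_zero_of_finite)
          (Subgroup.relIndex_dvd_of_le_left V hle2)) ?_
        have hmul := Subgroup.relIndex_mul_relIndex ⊥ (V ⊓ Subgroup.centralizer (B : Set X)) V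
          bot_le inf_le_left
        rw [Subgroup.relIndex_bot_left, Subgroup.relIndex_bot_left] at hmul
        rw [← hmul, hcardB, ← heq] at hwt
        have h0 : 0 < Nat.card B0 * Nat.card ↥(V ⊓ Subgroup.centralizer (B : Set X)) :=
          Nat.mul_pos Nat.card_pos Nat.card_pos
        refine Nat.le_of_mul_le_mul_left ?_ h0
        calc _ = Nat.card B0 * (Nat.card ↥(V ⊓ Subgroup.centralizer (B : Set X)) *
              (V ⊓ Subgroup.centralizer (B : Set X)).relIndex V) := mul_assoc _ _ _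
          _ ≤ _ := hwt
          _ = _ := by ring
      · exact hbB0 (Subgroup.mem_inf.2 ⟨hBA hbB, hQC (hSP (Subgroup.mem_inf.2 ⟨hA.1 (hBA hbB), hb⟩))⟩)
  obtain ⟨B₀, hB₀⟩ := hexists
  set D : Set X := {d | ∃ B, Good B ∧ d ∈ B} with hDdef
  set K := Subgroup.closure D with hKdef
  have hKS : K ≤ (S : Subgroup X) := (Subgroup.closure_le _).mpr fun d ⟨B, hB, hd⟩ => hB.1 hd
  have hKne : Nz K ≠ ⊤ := Nz_ne_top_of_not_le_pCore (S.2.to_le hKS) fun h =>
    hB₀.2.1 fun b hb => h (Subgroup.subset_closure ⟨B₀, hB₀, hb⟩)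
  have hcjK : ∀ h : X, cj h K ≤ (S : Subgroup X) → cj h K = K := by
    intro h hh
    refine Subgroup.eq_of_le_of_card_ge ?_ (card_cj h K).ge
    rw [hKdef, cj_le_iff, Subgroup.closure_le]
    rintro d ⟨B, hB, hd⟩
    rw [SetLike.mem_coe, mem_cj_inv]
    suffices hm : Good (cj h B) from
      Subgroup.subset_closure (show _ ∈ D from ⟨cj h B, hm, by simpa [mem_cj] using hd⟩)
    refine ⟨?_, ?_, ?_⟩
    · exact (cj_mono h (show B ≤ K from fun b hb => Subgroup.subset_closure (show b ∈ D from ⟨B, hB, hb⟩))).trans hh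
    · intro hle
      refine hB.2.1 fun b hb => ?_
      have := (inferInstance : Q.Normal).conj_mem _ (hle ⟨b, hb, rfl⟩) h⁻¹
      simpa [mul_assoc] using this
    · rintro B' hB' hi v ⟨hvV, hvB'⟩
      have hB'' : cj h⁻¹ B' ≤ B := by
        have := cj_mono h⁻¹ hB'
        rwa [cj_inv_cj] at this
      have hi' : (cj h⁻¹ B').relIndex B = 2 := by
        rw [← cj_inv_cj h B, ← hi]
        exact Subgroup.relIndex_map_map_of_injective _ _ (MulEquiv.injective _)
      have hv' : h⁻¹ * v * h ∈ V ⊓ Subgroup.centralizer ((cj h⁻¹ B' : Subgroup X) : Set X) := by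
        refine ⟨by simpa using hVn.conj_mem v hvV h⁻¹, Subgroup.mem_centralizer_iff.2 ?_⟩
        rintro _ ⟨b, hb, rfl⟩
        simp only [MulEquiv.coe_toMonoidHom, MulAut.conj_apply, inv_inv]
        calc h⁻¹ * b * h * (h⁻¹ * v * h) = h⁻¹ * (b * v) * h := by group
          _ = h⁻¹ * v * h * (h⁻¹ * b * h) := by
              rw [Subgroup.mem_centralizer_iff.1 hvB' b hb]; group
      have := hB.2.2 _ hB'' hi' hv'
      refine Subgroup.mem_centralizer_iff.2 ?_
      rintro _ ⟨b, hb, rfl⟩
      simp only [MulEquiv.coe_toMonoidHom, MulAut.conj_apply]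
      calc h * b * h⁻¹ * v = h * (b * (h⁻¹ * v * h)) * h⁻¹ := by group
        _ = v * (h * b * h⁻¹) := by rw [Subgroup.mem_centralizer_iff.1 this b hb]; group
  have hSK : (S : Subgroup X) ≤ Nz K := fun s hs =>
    mem_Nz.mpr (hcjK s ((cj_mono _ hKS).trans (cj_eq_self_of_mem hs).le))
  have hKM : K ≤ M := hKS.trans hSM
  haveI : IsMulCommutative V := hVe.1
  haveI : Fintype (X ⧸ M) := Fintype.ofFinite _
  let c : X ⧸ M → X := fun q => Quotient.liftOn' q (fun g => g * x * g⁻¹) (by
    intro a b hab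
    rw [QuotientGroup.leftRel_apply] at hab
    have := hmemM.1 hab
    calc a * x * a⁻¹ = a * (a⁻¹ * b * x * (a⁻¹ * b)⁻¹) * a⁻¹ := by rw [this]
      _ = b * x * b⁻¹ := by group)
  have hcmk : ∀ g : X, c (g : X ⧸ M) = g * x * g⁻¹ := fun _ => rfl
  have hcZ : ∀ q, c q ∈ Z := by
    intro q
    induction q using QuotientGroup.induction_on with
    | _ a => exact hZn.conj_mem x hxZ a
  have hcV : ∀ q, c q * x⁻¹ ∈ V := by
    intro q
    induction q using QuotientGroup.induction_on with
    | _ a =>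
      refine Modules.mem_omegaOne_of_pow (mul_mem (hcZ _) (inv_mem hxZ)) ?_
      have hcomm : Commute (a * x * a⁻¹) x⁻¹ :=
        Modules.comm_iff.1 hZc _ (hZn.conj_mem x hxZ a) _ (inv_mem hxZ)
      rw [hcmk, hcomm.mul_pow, conj_pow, sq, hx2, inv_pow, sq, mul_inv_cancel]
  let f : X ⧸ M → Additive V := fun q => Additive.ofMul ⟨c q * x⁻¹, hcV q⟩
  let σ : K →* AddMonoid.End (Additive V) := (conjEnd V).comp K.subtype
  have hcq : ∀ (g : X) (q : X ⧸ M), c (g • q) = g * c q * g⁻¹ := by
    intro g q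
    induction q using QuotientGroup.induction_on with
    | _ a => show g * a * x * (g * a)⁻¹ = _; rw [hcmk]; group
  have hequiv : ∀ (k : K) (q : X ⧸ M), f (k • q) = σ k (f q) := by
    intro k q
    refine congrArg Additive.ofMul (Subtype.ext ?_)
    show c ((k : X) • q) * x⁻¹ = (k : X) * (c q * x⁻¹) * (k : X)⁻¹
    rw [hcq]
    conv_lhs => rw [← hmemM.1 (hKM k.2)]
    group
  have hfix : ∀ L : Subgroup K, IsCoatom L →
      ∃ d ∉ L, ∀ v : Additive V, (∀ l ∈ L, σ l v = v) → σ d v = v := by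
    intro L hL
    haveI := PGroup.normal_of_isCoatom (S.2.to_le hKS) hL
    have hidx : L.index = 2 := PGroup.index_of_isCoatom (S.2.to_le hKS) hL
    obtain ⟨d, ⟨B, hB, hdB⟩, hdL⟩ : ∃ d ∈ D, ∀ h : d ∈ K, (⟨d, h⟩ : K) ∉ L := by
      by_contra hno
      push Not at hno
      refine hL.1 (top_le_iff.mp fun k _ => ?_)
      have : K ≤ L.map K.subtype := (Subgroup.closure_le _).2 fun d hd => by
        obtain ⟨h, hh⟩ := hno d hd
        exact ⟨_, hh, rfl⟩
      obtain ⟨l, hl, hlk⟩ := this k.2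
      rwa [← Subtype.ext hlk]
    have hdK : d ∈ K := Subgroup.subset_closure ⟨B, hB, hdB⟩
    refine ⟨⟨d, hdK⟩, hdL hdK, fun v hv => ?_⟩
    set B' := B ⊓ L.map K.subtype with hB'
    have hBK : B ≤ K := fun b hb => Subgroup.subset_closure ⟨B, hB, hb⟩
    have hi : B'.relIndex B = 2 := by
      rw [hB', inf_comm, Subgroup.inf_relIndex_right]
      have h1 : (L.map K.subtype).relIndex B ∣ L.index := by
        rw [← Subgroup.map_subgroupOf_eq_of_le hBK,
          Subgroup.relIndex_map_map_of_injective _ _ K.subtype_injective]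
        exact Subgroup.relIndex_dvd_index_of_normal L _
      rw [hidx] at h1
      refine ((Nat.dvd_prime Nat.prime_two).1 h1).resolve_left fun h => ?_
      obtain ⟨l, hl, hld⟩ := Subgroup.relIndex_eq_one.1 h hdB
      exact hdL hdK (by rwa [← show l = ⟨d, hdK⟩ from Subtype.ext hld])
    refine Additive.toMul.injective (Subtype.ext ?_)
    show d * ((Additive.toMul v : V) : X) * d⁻¹ = _
    have hvB' : ((Additive.toMul v : V) : X) ∈
        V ⊓ Subgroup.centralizer (B' : Set X) := by
      refine ⟨(Additive.toMul v : V).2, Subgroup.mem_centralizer_iff.2 ?_⟩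
      rintro _ ⟨-, l, hl, rfl⟩
      have := congrArg (fun w => ((Additive.toMul w : V) : X)) (hv l hl)
      exact mul_inv_eq_iff_eq_mul.1 this
    rw [Subgroup.mem_centralizer_iff.1 (hB.2.2 B' inf_le_left hi hvB') d hdB, mul_inv_cancel_right]
  have hV2 : ∀ v : Additive V, v + v = 0 := fun v => congrArg Additive.ofMul
    (show (Additive.toMul v : V) * (Additive.toMul v : V) = 1 from Subtype.ext (by
      show ((Additive.toMul v : V) : X) * ((Additive.toMul v : V) : X) = 1
      rw [← sq]; exact hVe.2 _ (Additive.toMul v : V).2))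
  have hsum := sum_zero_two σ (S.2.to_le hKS) hV2 hfix f hequiv fun q hq => by
    induction q using QuotientGroup.induction_on with
    | _ a =>
      have hh : ∀ k ∈ K, a⁻¹ * k * a ∈ M := fun k hk => by
        have h2 : ((k * a : X) : X ⧸ M) = (a : X ⧸ M) := hq ⟨k, hk⟩
        have h3 := M.inv_mem (QuotientGroup.eq.mp h2)
        simpa [mul_assoc] using h3
      have ha : a ∈ M := by
        have hKhM : cj a⁻¹ K ≤ M := fun y hy => by
          rw [mem_cj_inv] at hy
          have := hh _ hy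
          simpa [mul_assoc] using this
        obtain ⟨m, hm, hmle⟩ :=
          (IsSyl.sylow_inf hSM).exists_conj_le (isPGroup_cj (S.2.to_le hKS) a⁻¹) hKhM
        rw [cj_cj] at hmle
        have h1 : m * a⁻¹ ∈ M := hover _ hSK hKne (mem_Nz.mpr (hcjK _ hmle))
        have h2 := M.mul_mem (M.inv_mem hm) h1
        rw [inv_mul_cancel_left] at h2
        simpa using M.inv_mem h2
      exact congrArg Additive.ofMul (Subtype.ext (show c (a : X ⧸ M) * x⁻¹ = 1 by
        rw [hcmk, hmemM.1 ha, mul_inv_cancel]))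
  haveI := hZc
  let cA : X ⧸ M → Z := fun q => ⟨c q, hcZ q⟩
  have hprod : ∏ q, cA q = (⟨x, hxZ⟩ : Z) ^ M.index := by
    have h1 : (∏ q, (cA q * (⟨x, hxZ⟩ : Z)⁻¹)) = 1 := by
      have h2 : ∏ q, (⟨c q * x⁻¹, hcV q⟩ : V) = 1 := by
        simpa [f, ← ofMul_prod] using hsum
      have h3 := congrArg (Subgroup.inclusion hVZ) h2
      rw [map_prod, map_one] at h3
      rw [← h3]
      rfl
    rw [Finset.prod_mul_distrib, Finset.prod_const, Finset.card_univ, inv_pow, mul_inv_eq_one,
      ← Nat.card_eq_fintype_card] at h1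
    exact h1
  refine hne (top_le_iff.mp fun g _ => hmemM.2 ?_)
  have hperm : ∏ q, cA (g • q) = ∏ q, cA q :=
    Fintype.prod_equiv (MulAction.toPerm g) _ _ fun q => rfl
  set n := M.index with hn
  have hx' : g * x ^ n * g⁻¹ = x ^ n := by
    have h1 : (Z.subtype (∏ q, cA (g • q))) = g * (Z.subtype (∏ q, cA q)) * g⁻¹ := by
      induction (Finset.univ : Finset (X ⧸ M)) using Finset.induction_on with
      | empty => simp
      | @insert a s ha ih =>
        rw [Finset.prod_insert ha, Finset.prod_insert ha, map_mul, map_mul, ih]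
        show c (g • a) * _ = g * (c a * _) * g⁻¹
        rw [hcq]; group
    rw [hperm, hprod] at h1
    simpa using h1.symm
  obtain ⟨j, hj⟩ : Odd n := by
    rw [← Nat.not_even_iff_odd, even_iff_two_dvd]
    exact fun hd => Sylow.not_dvd_index S (hd.trans (Subgroup.index_dvd_of_le hSM))
  rw [hj, pow_succ, pow_mul, sq] at hx'
  have hj' : g * (x * x) ^ j * g⁻¹ = (x * x) ^ j := by rw [← conj_pow, hx2]
  refine mul_left_cancel (a := (x * x) ^ j) ?_
  calc (x * x) ^ j * (g * x * g⁻¹) = (g * (x * x) ^ j * g⁻¹) * (g * x * g⁻¹) := by rw [hj']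
    _ = g * ((x * x) ^ j * x) * g⁻¹ := by group
    _ = (x * x) ^ j * x := hx'

end Cfsg.Agent.LocalP
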