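import Cfsg.Agent.H4.ThompsonNPC
import Cfsg.Agent.LocalP.ThompsonWC

/-!
Thompson's normal `p`-complement theorem for the abelian Thompson subgroup, including groups free
of `S₄` for `p = 2`.
-/

set_option autoImplicit false

open scoped commutatorElement

namespace Cfsg.Agent.LocalP

universe u

variable {p : ℕ} [hp : Fact p.Prime]

theorem map_thompsonSubgroupAOf_of_inj {X Y : Type*} [Group X] [Group Y] (f : X →* Y)
    (S : Subgroup X) (h : S ⊓ f.ker = ⊥) :
    (Cfsg.thompsonSubgroupAOf S).map f = Cfsg.thompsonSubgroupAOf (S.map f) := by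
  have hinj : Function.Injective (f.comp S.subtype) := by
    rw [← MonoidHom.ker_eq_bot_iff, eq_bot_iff]
    intro s hs
    have : (s : X) ∈ S ⊓ f.ker := ⟨s.2, hs⟩
    rw [h, Subgroup.mem_bot] at this
    exact Subtype.ext this
  have h1 := Modules.map_thompsonSubgroupAOf hinj ⊤
  rw [← Subgroup.map_map, ← Subgroup.map_map, ← MonoidHom.range_eq_map, S.range_subtype,
    Modules.map_thompsonSubgroupAOf S.subtype_injective, ← MonoidHom.range_eq_map,
    S.range_subtype] at h1
  exact h1

/-- The abelian Thompson subgroup as a functor. -/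
def thompsonAFunctor (p : ℕ) [Fact p.Prime] : H4.PFunctor'.{u} p where
  W S := Cfsg.thompsonSubgroupAOf S
  W_le S := Modules.thompsonSubgroupAOf_le S
  W_map f S h := map_thompsonSubgroupAOf_of_inj f S h
  W_ne_bot S hS hne := ne_bot_of_le_ne_bot (Modules.centerThompsonAOf_ne_bot hS hne) inf_le_left

theorem thompsonA_reduced_false {c : Prop} (hc : c) (X : Type u) [Group X] [Finite X]
    (P : Sylow p X) (K : Subgroup X) (hfree : p ≠ 2 ∨ ¬ Cfsg.Involves (Equiv.Perm (Fin 4)) X)
    (h : H4.ReducedCase (thompsonAFunctor p) c P K) : False := by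
  haveI := h.normal
  set Q := Cfsg.pCore p X with hQ
  have hQP : Q ≤ (P : Subgroup X) := Cores.pCore_le_sylow P
  have hJ : ¬ (⊤ : Subgroup X) ≤
      Subgroup.normalizer (Cfsg.thompsonSubgroupAOf (P : Subgroup X) : Set X) := by
    intro hle
    have h1 := h.hyp.1
    change Cfsg.HasNormalPComplement p (Subgroup.normalizer
      (Cfsg.thompsonSubgroupAOf (P : Subgroup X) : Set X)) at h1
    rw [top_le_iff.1 hle, H4.npc_top_iff] at h1
    exact h.not_npc h1
  by_cases hp2 : p = 2
  · subst hp2
    have hfree' := hfree.resolve_left (fun h => h rfl)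
    obtain ⟨A, hA, hAQ⟩ := exists_maxAb_not_le_core (p := 2) (H := (⊤ : Subgroup X))
      (T := (P : Subgroup X)) (by rw [pCoreOf_top]; exact hQP) hJ
    rw [pCoreOf_top] at hAQ
    have hover : ∀ H : Subgroup X, (P : Subgroup X) ≤ H → H ≠ ⊤ → H ≤ (P : Subgroup X) := by
      intro H hPH hH
      have hPN : (P : Subgroup X) ≤ Subgroup.normalizer ((H ⊓ K : Subgroup X) : Set X) :=
        (le_inf (hPH.trans Subgroup.le_normalizer) Subgroup.le_normalizer_of_normal).trans
          Subgroup.inf_normalizer_le_normalizer_inf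
      rcases h.minimal (H ⊓ K) (le_inf (hQP.trans hPH) h.core_le) inf_le_right hPN with e | e
      · intro y hy
        have hmem : y ∈ K ⊔ (P : Subgroup X) := h.sup_sylow ▸ Subgroup.mem_top y
        rw [← SetLike.mem_coe, Subgroup.normal_mul] at hmem
        obtain ⟨k, hk, s, hs, rfl⟩ := hmem
        have hkH : k ∈ H := by simpa using mul_mem hy (inv_mem (hPH hs))
        have : k ∈ H ⊓ K := ⟨hkH, hk⟩
        rw [e] at this
        exact mul_mem (hQP this) hs
      · exact absurd (top_le_iff.1 (h.sup_sylow ▸ sup_le ((e ▸ inf_le_left : K ≤ H)) hPH)) hH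
    have key : ∀ (k : ℕ) (x : X), x ∈ CF.zed (P : Subgroup X) → x ^ 2 ^ k = 1 →
        Subgroup.centralizer ({x} : Set X) = ⊤ := by
      intro k
      induction k with
      | zero =>
        intro x _ hx
        rw [pow_zero, pow_one] at hx
        subst hx
        exact top_le_iff.1 fun y _ => Subgroup.mem_centralizer_singleton_iff.2 (by simp)
      | succ k ih =>
        intro x hx hxk
        have hxQ : x ∈ Q := h.centralizer_le (Subgroup.centralizer_le hQP hx.2)
        have hx2 := ih (x * x) (mul_mem hx hx) (by rw [← sq, ← pow_mul, ← pow_succ']; exact hxk)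
        refine eq_top_of_trace_two hfree' P hx hxQ (fun y => ?_) (fun H hPH hH => ?_) hA hAQ
        · have : y ∈ Subgroup.centralizer ({x * x} : Set X) := hx2 ▸ Subgroup.mem_top y
          rw [Subgroup.mem_centralizer_singleton_iff] at this
          rw [this, mul_inv_cancel_right]
        · refine (hover H hPH hH).trans fun s hs => ?_
          rw [Subgroup.mem_centralizer_singleton_iff]
          exact Subgroup.mem_centralizer_iff.mp hx.2 s hs
    have htop : Subgroup.centralizer
        ((H4.centerOf (P : Subgroup X) : Subgroup X) : Set X) = ⊤ := by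
      refine top_le_iff.1 fun y _ => Subgroup.mem_centralizer_iff.2 fun x hx => ?_
      obtain ⟨k, hk⟩ := P.2 ⟨x, hx.1⟩
      have : y ∈ Subgroup.centralizer ({x} : Set X) :=
        key k x hx (congrArg Subtype.val hk) ▸ Subgroup.mem_top y
      exact (Subgroup.mem_centralizer_singleton_iff.1 this).symm
    have h2 := h.hyp.2 hc
    rw [htop, H4.npc_top_iff] at h2
    exact h.not_npc h2
  have hCV := h.centralizer_omega hp2 hc
  haveI hVn : (Cfsg.omegaOne p (H4.centerOf Q)).Normal := by
    rw [← Subgroup.normalizer_eq_top_iff, eq_top_iff]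
    exact (Subgroup.normalizer_eq_top (H := H4.centerOf Q)).ge.trans
      (Modules.normalizer_le_normalizer_omegaOne p _)
  set V := Cfsg.omegaOne p (H4.centerOf Q) with hV
  have hVe : Cfsg.IsElementaryAbelian p V := Modules.elemAb_omegaOne
    (Modules.comm_iff.mpr fun a ha b hb => Subgroup.mem_centralizer_iff.mp hb.2 a ha.1)
  obtain ⟨a, haP, haQ, hq⟩ := exists_quadratic_local (p := p) (H := (⊤ : Subgroup X)) le_top P.2
    (by rw [Subgroup.relIndex_top_right]; exact Sylow.not_dvd_index P) hJ
  rw [pCoreOf_top] at haQ hq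
  refine haQ (h.faithful a haP fun k hk => ?_)
  rw [← hCV]
  refine H4.quadratic_centralizes hp2 V hVe.1 hVe.2 (a := a) ?_ K ?_ (m := Q.relIndex K)
    Subgroup.index_ne_zero_of_finite ?_ ?_ ?_ hk
  · intro v hv
    have hvZ : v ∈ H4.centerOf Q := Modules.omegaOne_le p _ hv
    have h1 : ⁅v, a⁆ ∈ ⁅H4.centerOf Q, Subgroup.zpowers a⁆ :=
      Subgroup.commutator_mem_commutator hvZ (Subgroup.mem_zpowers a)
    have h2 : ⁅(⁅v, a⁆)⁻¹, a⁆ ∈ ⁅⁅H4.centerOf Q, Subgroup.zpowers a⁆, Subgroup.zpowers a⁆ :=
      Subgroup.commutator_mem_commutator (inv_mem h1) (Subgroup.mem_zpowers a)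
    rw [hq, Subgroup.mem_bot, commutatorElement_inv, commutatorElement_eq_one_iff_mul_comm] at h2
    rw [commutatorElement_eq_one_iff_mul_comm]
    exact h2.symm
  · intro x hx y hy
    rw [hCV]
    exact h.commutator_le (Subgroup.commutator_mem_commutator hx hy)
  · exact (hp.out.coprime_iff_not_dvd.mpr h.coprime).symm
  · intro x hx
    rw [hCV]
    have := Subgroup.pow_index_mem (Q.subgroupOf K) (⟨x, hx⟩ : K)
    simpa [Subgroup.mem_subgroupOf, Subgroup.relIndex] using this
  · rw [Subgroup.normalizer_eq_top (H := K)]; exact Subgroup.mem_top a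

end Cfsg.Agent.LocalP
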