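import Cfsg.Prelude.Def_Transfer
import Cfsg.Agent.PGroup.Frattini
import Mathlib.GroupTheory.Transfer

/-!
The transfer argument of Wielandt and Yoshida for a weakly closed subgroup of a Sylow subgroup.
-/

set_option autoImplicit false
set_option linter.style.haveILetI false

open Subgroup MulAction Function

namespace Cfsg.Agent.LocalP.Yoshida

variable {G : Type*} [Group G] {N : Subgroup G} {C : Type*} [CommGroup C]

/-- The monomial cocycle attached to `φ : N →* C`. -/
noncomputable def cval (φ : ↥N →* C) (g : G) (q : G ⧸ N) : C :=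
  φ ⟨(g • q).out⁻¹ * (g * q.out), QuotientGroup.eq.1 (by
    rw [QuotientGroup.out_eq', ← smul_eq_mul, Quotient.coe_smul_out])⟩

theorem cval_mul (φ : ↥N →* C) (g h : G) (q : G ⧸ N) :
    cval φ (g * h) q = cval φ g (h • q) * cval φ h q := by
  rw [cval, cval, cval, ← map_mul]
  refine congrArg φ (Subtype.ext ?_)
  simp only [Subgroup.coe_mul, mul_smul]
  group

theorem cval_one (φ : ↥N →* C) (q : G ⧸ N) : cval φ 1 q = 1 := by
  have h := cval_mul φ 1 1 q
  rw [one_mul, one_smul] at h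
  exact left_eq_mul.1 h

theorem cval_of_fixed (φ : ↥N →* C) {g : G} {q : G ⧸ N} (h : g • q = q)
    (h' : q.out⁻¹ * (g * q.out) ∈ N) : cval φ g q = φ ⟨q.out⁻¹ * (g * q.out), h'⟩ := by
  unfold cval
  refine congrArg φ (Subtype.ext ?_)
  simp only [h]

theorem cval_pow (φ : ↥N →* C) (g : G) (q : G ⧸ N) (n : ℕ) :
    cval φ (g ^ n) q = ∏ i ∈ Finset.range n, cval φ g (g ^ i • q) := by
  induction n with
  | zero => rw [pow_zero, cval_one, Finset.prod_range_zero]
  | succ n ih => rw [pow_succ', cval_mul, ih, Finset.prod_range_succ, mul_comm]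

/-- Transfer is the product of the cocycle over all cosets. -/
theorem transfer_eq_prod [N.FiniteIndex] [Fintype (G ⧸ N)] (φ : ↥N →* C) (g : G) :
    MonoidHom.transfer φ g = ∏ q : G ⧸ N, cval φ g q := by
  rw [MonoidHom.transfer_def φ ⟨_, isComplement_range_left (fun q : G ⧸ N => q.out_eq')⟩ g]
  rw [Subgroup.leftTransversals.diff]
  rw [Subsingleton.elim (N.fintypeQuotientOfFiniteIndex) ‹Fintype (G ⧸ N)›]
  refine (Fintype.prod_equiv (MulAction.toPerm g) _ _ fun q => ?_).symm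
  unfold cval
  refine congrArg φ (Subtype.ext ?_)
  simp only [MulAction.toPerm_apply, smul_apply_eq_smul_apply_inv_smul, inv_smul_smul,
    smul_eq_mul]
  rw [IsComplement.leftQuotientEquiv_apply (fun q : G ⧸ N => q.out_eq'),
    IsComplement.leftQuotientEquiv_apply (fun q : G ⧸ N => q.out_eq')]

variable [Finite G]

/-- A product over an invariant set of cosets is trivial if it is so on each orbit. -/
theorem prod_eq_one_of_orbits {R : Subgroup G} {B : Finset (G ⧸ N)} {f : G ⧸ N → C}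
    (hB : ∀ r ∈ R, ∀ q ∈ B, r • q ∈ B)
    (h : ∀ q ∈ B, ∀ O : Finset (G ⧸ N), (∀ b, b ∈ O ↔ ∃ r ∈ R, r • q = b) → ∏ b ∈ O, f b = 1) :
    ∏ b ∈ B, f b = 1 := by
  classical
  rw [Finset.prod_partition (MulAction.orbitRel ↥R (G ⧸ N)) (s := B) (f := f)]
  refine Finset.prod_eq_one fun c hc => ?_
  obtain ⟨q, hq, rfl⟩ := Finset.mem_image.1 hc
  refine h q hq _ fun b => ?_
  rw [Finset.mem_filter, Quotient.eq, MulAction.orbitRel_apply, MulAction.mem_orbit_iff]
  constructor
  · rintro ⟨-, r, rfl⟩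
    exact ⟨r, r.2, rfl⟩
  · rintro ⟨r, hr, rfl⟩
    exact ⟨hB r hr q hq, ⟨r, hr⟩, rfl⟩

/-- If all `p`-elements of smaller order are in the kernel, only fixed points contribute. -/
theorem exists_fixed_of_prod_ne_one {p : ℕ} [Fact p.Prime] (φ : ↥N →* C) {x : G} {e : ℕ}
    (hx : orderOf x = p ^ e)
    (hmin : ∀ u : G, ∀ hu : u ∈ N, ∀ j < e, orderOf u = p ^ j → φ ⟨u, hu⟩ = 1)
    {B : Finset (G ⧸ N)} (hB : ∀ q ∈ B, x • q ∈ B) (hne : ∏ b ∈ B, cval φ x b ≠ 1) :
    ∃ q ∈ B, x • q = q := by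
  classical
  by_contra hcon
  push Not at hcon
  have hinv : ∀ (n : ℕ) (q : G ⧸ N), q ∈ B → x ^ n • q ∈ B := by
    intro n
    induction n with
    | zero => intro q hq; simpa using hq
    | succ n ih => intro q hq; rw [pow_succ', mul_smul]; exact hB _ (ih q hq)
  refine hne (prod_eq_one_of_orbits (R := zpowers x) ?_ fun q hq O hO => ?_)
  · intro r hr q hq
    obtain ⟨n, rfl⟩ := (isOfFinOrder_of_finite x).mem_powers_iff_mem_zpowers.2 hr
    exact hinv n q hq
  set k := minimalPeriod (x • ·) q with hk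
  have hper : IsPeriodicPt (x • ·) (orderOf x) q := by
    show (x • ·)^[orderOf x] q = q
    rw [smul_iterate]
    simp only [pow_orderOf_eq_one, one_smul]
  have hkpos : 0 < k := hper.minimalPeriod_pos (orderOf_pos x)
  have hxk : x ^ k • q = q := by
    have := isPeriodicPt_minimalPeriod (x • ·) q
    rwa [IsPeriodicPt, IsFixedPt, smul_iterate] at this
  have hOeq : O = (Finset.range k).image (fun i => x ^ i • q) := by
    ext b
    rw [hO, Finset.mem_image]
    constructor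
    · rintro ⟨r, hr, rfl⟩
      obtain ⟨n, rfl⟩ := (isOfFinOrder_of_finite x).mem_powers_iff_mem_zpowers.2 hr
      refine ⟨n % k, Finset.mem_range.2 (Nat.mod_lt _ hkpos), ?_⟩
      have := iterate_mod_minimalPeriod_eq (f := (x • ·)) (x := q) (n := n)
      rwa [smul_iterate, smul_iterate] at this
    · rintro ⟨i, -, rfl⟩
      exact ⟨x ^ i, pow_mem (mem_zpowers x) i, rfl⟩
  rw [hOeq, Finset.prod_image fun i hi j hj hij =>
    iterate_injOn_Iio_minimalPeriod (f := (x • ·)) (x := q) (Finset.mem_range.1 hi)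
      (Finset.mem_range.1 hj) (by simpa [smul_iterate] using hij), ← cval_pow]
  have hmem : q.out⁻¹ * (x ^ k * q.out) ∈ N := QuotientGroup.eq.1 (by
    rw [QuotientGroup.out_eq', ← smul_eq_mul, Quotient.coe_smul_out, hxk])
  rw [cval_of_fixed φ hxk hmem]
  obtain ⟨i, hi, hik⟩ := (Nat.dvd_prime_pow Fact.out).1 (hx ▸ hper.minimalPeriod_dvd)
  have hi0 : i ≠ 0 := fun h0 => hcon q hq (by
    have hk1 : k = 1 := by rw [hk, hik, h0, pow_zero]
    rwa [hk1, pow_one] at hxk)
  have hord : orderOf (q.out⁻¹ * (x ^ k * q.out)) = p ^ (e - i) := by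
    rw [show q.out⁻¹ * (x ^ k * q.out) = MulAut.conj q.out⁻¹ (x ^ k) by
        simp [MulAut.conj_apply, mul_assoc], MulEquiv.orderOf_eq,
      orderOf_pow' x hkpos.ne', hx, hk, hik,
      Nat.gcd_eq_right (pow_dvd_pow p hi), Nat.pow_div hi (Fact.out : p.Prime).pos]
  exact hmin _ hmem _ (by omega) hord

/-- A homomorphism on `N_G(W)` whose transfer kills `S`. -/
theorem exists_hom {p : ℕ} [Fact p.Prime] (S : Sylow p G) (hSN : (S : Subgroup G) ≤ N)
    (h : (S : Subgroup G) ⊓ commutator G ≠ (S : Subgroup G) ⊓ ⁅N, N⁆) :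
    ∃ φ : ↥N →* Multiplicative (ZMod p), (∃ s, ∃ hs : s ∈ (S : Subgroup G), φ ⟨s, hSN hs⟩ ≠ 1) ∧
      ∀ s ∈ (S : Subgroup G), MonoidHom.transfer φ s = 1 := by
  classical
  set A := Abelianization ↥N
  haveI hAfin : Finite A := inferInstanceAs (Finite (↥N ⧸ commutator ↥N))
  set m := Nat.card A / p ^ (Nat.card A).factorization p with hm
  set η : ↥N →* A := (powMonoidHom m).comp Abelianization.of with hη
  have hmcop : Nat.Coprime p m := Nat.coprime_ordCompl Fact.out Nat.card_pos.ne'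
  have hker : ∀ s (hs : s ∈ (S : Subgroup G)), η ⟨s, hSN hs⟩ = 1 → s ∈ ⁅N, N⁆ := by
    intro s hs h1
    have h2 : (⟨s, hSN hs⟩ : ↥N) ^ m ∈ commutator ↥N := by
      rw [← Abelianization.ker_of, MonoidHom.mem_ker, map_pow]
      exact h1
    obtain ⟨n, hn⟩ := S.2 ⟨s, hs⟩
    have hn' : s ^ p ^ n = 1 := congrArg Subtype.val hn
    obtain ⟨l, hl⟩ : ∃ l, (s ^ m) ^ l = s := exists_pow_eq_self_of_coprime
      (Nat.Coprime.coprime_dvd_right (orderOf_dvd_of_pow_eq_one hn') (hmcop.symm.pow_right n))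
    rw [← hl]
    refine pow_mem ?_ _
    have h3 := mem_map_of_mem N.subtype h2
    rwa [_root_.commutator_def, map_commutator, ← MonoidHom.range_eq_map, range_subtype] at h3
  set E := η.range with hE
  set η' : ↥N →* ↥E := η.rangeRestrict with hη'
  have hEp : IsPGroup p ↥E := by
    rintro ⟨_, a, rfl⟩
    refine ⟨(Nat.card A).factorization p, Subtype.ext ?_⟩
    show (Abelianization.of a ^ m) ^ p ^ (Nat.card A).factorization p = 1
    rw [← pow_mul, hm, mul_comm, Nat.ordProj_mul_ordCompl_eq_self, pow_card_eq_one']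
  set S0 : Subgroup ↥E := ((S : Subgroup G).subgroupOf N).map η' with hS0
  have hS0top : S0 = ⊤ := by
    by_contra hne
    have h1 : S0.index ∣ ((S : Subgroup G).subgroupOf N).index :=
      index_map_dvd _ (MonoidHom.rangeRestrict_surjective η)
    obtain ⟨j, hj⟩ := hEp.index S0
    rcases j with _ | j
    · exact hne (index_eq_one.1 (by rw [hj, pow_zero]))
    · refine S.not_dvd_index ((dvd_pow_self p j.succ_ne_zero).trans (hj ▸ h1.trans ?_))
      exact ⟨N.index, (relIndex_mul_index hSN).symm⟩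
  set τ : G →* ↥E := MonoidHom.transfer η' with hτ
  have hTne : (S : Subgroup G).map τ ≠ ⊤ := by
    intro htop
    set a : ↥(S : Subgroup G) →* ↥E := τ.comp (S : Subgroup G).subtype
    set b : ↥(S : Subgroup G) →* ↥E := η'.comp (Subgroup.inclusion hSN)
    have hb : b.range = ⊤ := by
      rw [← hS0top, hS0, MonoidHom.range_eq_map, ← map_map, ← MonoidHom.range_eq_map,
        inclusion_range]
    have ha : a.range = ⊤ := by
      rw [← htop, MonoidHom.range_eq_map, ← map_map, ← MonoidHom.range_eq_map, range_subtype]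
    have hle : b.ker ≤ a.ker := by
      intro s hs
      have h1 : (s : G) ∈ commutator G := by
        have h2 := hker s s.2 (congrArg Subtype.val hs)
        rw [_root_.commutator_def]
        exact commutator_mono le_top le_top h2
      exact Abelianization.commutator_subset_ker τ h1
    have hcard : Nat.card ↥a.ker = Nat.card ↥b.ker := by
      have ha' := a.ker.card_mul_index
      have hb' := b.ker.card_mul_index
      rw [index_ker, ha, card_top] at ha'
      rw [index_ker, hb, card_top] at hb'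
      exact Nat.eq_of_mul_eq_mul_right Nat.card_pos (ha'.trans hb'.symm)
    have heq := eq_of_le_of_card_ge hle hcard.le
    refine h (le_antisymm (le_inf inf_le_left fun s hs => ?_) (inf_le_inf_left _ ?_))
    · refine hker s hs.1 ?_
      have : (⟨s, hs.1⟩ : ↥(S : Subgroup G)) ∈ b.ker := by
        rw [heq]
        exact Abelianization.commutator_subset_ker τ hs.2
      exact congrArg Subtype.val this
    · rw [_root_.commutator_def]
      exact commutator_mono le_top le_top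
  obtain ⟨M, hM, hTM⟩ := (eq_top_or_exists_le_coatom ((S : Subgroup G).map τ)).resolve_left hTne
  haveI := PGroup.normal_of_isCoatom hEp hM
  have hcard : Nat.card (↥E ⧸ M) = p := PGroup.index_of_isCoatom hEp hM
  have hcard' : Nat.card (Multiplicative (ZMod p)) = p := by simp
  set e := mulEquivOfPrimeCardEq hcard hcard'
  set χ : ↥E →* Multiplicative (ZMod p) := e.toMonoidHom.comp (QuotientGroup.mk' M)
  have hχ : χ.ker = M := by
    ext a
    simp [χ]
  refine ⟨χ.comp η', ?_, fun s hs => ?_⟩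
  · by_contra hcon
    push Not at hcon
    refine hM.1 (top_le_iff.1 (hS0top ▸ ?_))
    rintro _ ⟨⟨s, hsN⟩, hs, rfl⟩
    rw [← hχ]
    exact hcon s hs
  · haveI := Fintype.ofFinite (G ⧸ N)
    have h1 : χ (τ s) = MonoidHom.transfer (χ.comp η') s := by
      rw [hτ, transfer_eq_prod, transfer_eq_prod, map_prod]
      rfl
    rw [← h1, ← MonoidHom.mem_ker, hχ]
    exact hTM (mem_map_of_mem _ hs)

/-- The configuration behind the theorems of Wielandt and Yoshida. -/
theorem exists_config {p : ℕ} [Fact p.Prime] (S : Sylow p G) (W : Subgroup G)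
    (hW : Cfsg.IsWeaklyClosed W (S : Subgroup G))
    (h : (S : Subgroup G) ⊓ commutator G ≠
      (S : Subgroup G) ⊓ ⁅Subgroup.normalizer (W : Set G), Subgroup.normalizer (W : Set G)⁆) :
    ∃ x ∈ (S : Subgroup G), ∃ z ∈ W, ∃ U : Subgroup G, ∃ F : G → Multiplicative (ZMod p),
      U ≤ (S : Subgroup G) ∧ x ∈ U ∧ z ∈ Subgroup.normalizer (U : Set G) ∧
      W ≤ Subgroup.normalizer (U : Set G) ∧ z ∉ U ∧ (W ⊓ U).relIndex W = p ∧
      x⁻¹ * z⁻¹ * x * z ∈ W ∧ (∀ u ∈ U, ∀ v ∈ U, F (u * v) = F u * F v) ∧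
      ∏ i ∈ Finset.range p, F ((z ^ i)⁻¹ * x * z ^ i) ≠ 1 := by
  classical
  set N := Subgroup.normalizer (W : Set G) with hN
  have hWN : W ≤ N := Subgroup.le_normalizer
  have hSN : (S : Subgroup G) ≤ N := by
    intro s hs
    have hle : W.map (MulAut.conj s).toMonoidHom ≤ (S : Subgroup G) := by
      rintro _ ⟨w, hw, rfl⟩
      exact mul_mem (mul_mem hs (hW.1 hw)) (inv_mem hs)
    refine mem_normalizer_iff.2 fun w => ?_
    have heq := hW.2 s hle
    constructor
    · intro hw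
      rw [← heq]
      exact ⟨w, hw, rfl⟩
    · intro hw
      rw [← heq] at hw
      obtain ⟨w', hw', he⟩ := hw
      rwa [(MulAut.conj s).injective (show MulAut.conj s w = MulAut.conj s w' from he.symm)]
  obtain ⟨φ, ⟨s₀, hs₀, hφ₀⟩, htr⟩ := exists_hom S hSN h
  haveI := Fintype.ofFinite (G ⧸ N)
  have hconj : ∀ (a b : ↥N), φ (a⁻¹ * b * a) = φ b := fun a b => by
    rw [map_mul, map_mul, map_inv, mul_comm, mul_inv_cancel_left]
  -- an element of least order outside the kernel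
  have hex : ∃ e, ∃ u : G, ∃ hu : u ∈ N, orderOf u = p ^ e ∧ φ ⟨u, hu⟩ ≠ 1 := by
    obtain ⟨n, hn⟩ := IsPGroup.iff_orderOf.1 S.2 ⟨s₀, hs₀⟩
    exact ⟨n, s₀, hSN hs₀, by simpa [← orderOf_coe] using hn, hφ₀⟩
  obtain ⟨u, hu, huo, huφ⟩ := Nat.find_spec hex
  set e := Nat.find hex
  obtain ⟨x, hxS, hxo, hxφ⟩ : ∃ x, ∃ hx : x ∈ (S : Subgroup G),
      orderOf x = p ^ e ∧ φ ⟨x, hSN hx⟩ ≠ 1 := by
    have hp' : IsPGroup p ↥(zpowers (⟨u, hu⟩ : ↥N)) :=
      IsPGroup.of_card (n := e) (by rw [Nat.card_zpowers, ← orderOf_coe, huo])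
    obtain ⟨Q, hQ⟩ := hp'.exists_le_sylow
    obtain ⟨n, hn⟩ := MulAction.exists_smul_eq ↥N Q (S.subtype hSN)
    have h1 : (MulAut.conj n (⟨u, hu⟩ : ↥N)) ∈ (S.subtype hSN : Subgroup ↥N) := by
      rw [← hn, Sylow.coe_subgroup_smul]
      exact smul_mem_pointwise_smul _ _ _ (hQ (mem_zpowers _))
    refine ⟨_, h1, ?_, ?_⟩
    · show orderOf ((MulAut.conj n ⟨u, hu⟩ : ↥N) : G) = p ^ e
      rw [orderOf_coe, MulEquiv.orderOf_eq, ← orderOf_coe, huo]
    · have h2 := hconj n⁻¹ ⟨u, hu⟩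
      rw [inv_inv] at h2
      rwa [← h2] at huφ
  have hmin : ∀ u : G, ∀ hu : u ∈ N, ∀ j < e, orderOf u = p ^ j → φ ⟨u, hu⟩ = 1 := by
    intro u hu j hj ho
    by_contra hne
    exact Nat.find_min hex hj ⟨u, hu, ho, hne⟩
  set q₀ : G ⧸ N := ((1 : G) : G ⧸ N)
  have hq₀ : ∀ g ∈ N, g • q₀ = q₀ := fun g hg => by
    show ((g * 1 : G) : G ⧸ N) = ((1 : G) : G ⧸ N)
    rw [mul_one, QuotientGroup.eq]
    simpa using inv_mem hg
  have hq₀out : q₀.out ∈ N := by
    have := QuotientGroup.eq.1 (q₀.out_eq').symm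
    simpa using this
  have hbase : cval φ x q₀ = φ ⟨x, hSN hxS⟩ := by
    rw [cval_of_fixed φ (hq₀ x (hSN hxS)) (mul_mem (inv_mem hq₀out) (mul_mem (hSN hxS) hq₀out)),
      ← hconj ⟨q₀.out, hq₀out⟩ ⟨x, hSN hxS⟩]
    exact congrArg φ (Subtype.ext (mul_assoc _ _ _).symm)
  -- only the base point is fixed by `W`
  have hfix : ∀ q : G ⧸ N, (∀ w ∈ W, w • q = q) → q = q₀ := by
    intro q hq
    set Wq := W.map (MulAut.conj q.out⁻¹).toMonoidHom with hWq
    have hle : Wq ≤ N := by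
      rintro _ ⟨w, hw, rfl⟩
      have h1 : q.out⁻¹ * (w * q.out) ∈ N := QuotientGroup.eq.1 (by
        rw [QuotientGroup.out_eq', ← smul_eq_mul, Quotient.coe_smul_out, hq w hw])
      simpa [MulAut.conj_apply, mul_assoc] using h1
    have hp' : IsPGroup p ↥(Wq.subgroupOf N) :=
      ((S.2.to_le hW.1).map _).comap_subtype
    obtain ⟨Q, hQ⟩ := hp'.exists_le_sylow
    obtain ⟨n, hn⟩ := MulAction.exists_smul_eq ↥N Q (S.subtype hSN)
    have hsub : W.map (MulAut.conj ((n : G) * q.out⁻¹)).toMonoidHom ≤ (S : Subgroup G) := by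
      rintro _ ⟨w, hw, rfl⟩
      have h1 : (MulAut.conj q.out⁻¹ w) ∈ Wq := mem_map_of_mem _ hw
      have h2 : MulAut.conj n (⟨_, hle h1⟩ : ↥N) ∈ (S.subtype hSN : Subgroup ↥N) := by
        rw [← hn, Sylow.coe_subgroup_smul]
        exact smul_mem_pointwise_smul _ _ _ (hQ h1)
      simpa [MulAut.conj_apply, mul_assoc, mem_subgroupOf] using h2
    have heq := hW.2 _ hsub
    have hnq : (n : G) * q.out⁻¹ ∈ N := by
      refine mem_normalizer_iff.2 fun w => ?_
      constructor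
      · intro hw
        rw [← heq]
        exact ⟨w, hw, rfl⟩
      · intro hw
        rw [← heq] at hw
        obtain ⟨w', hw', he⟩ := hw
        rwa [(MulAut.conj ((n : G) * q.out⁻¹)).injective (show MulAut.conj ((n : G) * q.out⁻¹) w =
          MulAut.conj ((n : G) * q.out⁻¹) w' from he.symm)]
    have hout : q.out ∈ N := by
      have := mul_mem (inv_mem hnq) n.2
      simpa using this
    rw [← q.out_eq']
    exact QuotientGroup.eq.2 (by simpa using inv_mem hout)
  set R := zpowers x ⊔ W with hR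
  have hRS : R ≤ (S : Subgroup G) := sup_le (zpowers_le.2 hxS) hW.1
  have hRN : R ≤ N := hRS.trans hSN
  -- some orbit away from the base point contributes
  obtain ⟨q, hqne, O, hO, hOne⟩ : ∃ q, q ≠ q₀ ∧ ∃ O : Finset (G ⧸ N),
      (∀ b, b ∈ O ↔ ∃ r ∈ R, r • q = b) ∧ ∏ b ∈ O, cval φ x b ≠ 1 := by
    by_contra hcon
    push Not at hcon
    refine hxφ ?_
    have h1 := htr x hxS
    rw [transfer_eq_prod, ← Finset.mul_prod_erase _ _ (Finset.mem_univ q₀), hbase,
      prod_eq_one_of_orbits (R := R) (f := cval φ x) ?_ ?_, mul_one] at h1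
    · exact h1
    · intro r hr q hq
      refine Finset.mem_erase.2 ⟨fun he => (Finset.mem_erase.1 hq).1 ?_, Finset.mem_univ _⟩
      rw [← inv_smul_smul r q, he, hq₀ _ (inv_mem (hRN hr))]
    · intro q hq O hO
      exact hcon q (Finset.mem_erase.1 hq).1 O hO
  have hxR : x ∈ R := Subgroup.mem_sup_left (mem_zpowers x)
  obtain ⟨q₁, hq₁O, hxq₁⟩ := exists_fixed_of_prod_ne_one φ hxo hmin (fun b hb => by
    obtain ⟨r, hr, rfl⟩ := (hO b).1 hb
    exact (hO _).2 ⟨x * r, mul_mem hxR hr, mul_smul _ _ _⟩) hOne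
  obtain ⟨r₁, hr₁, hrq⟩ := (hO q₁).1 hq₁O
  have hq₁ne : q₁ ≠ q₀ := fun he => hqne (by
    rw [← inv_smul_smul r₁ q, hrq, he, hq₀ _ (inv_mem (hRN hr₁))])
  have hO₁ : ∀ b, b ∈ O ↔ ∃ r ∈ R, r • q₁ = b := by
    intro b
    rw [hO]
    constructor
    · rintro ⟨r, hr, rfl⟩
      exact ⟨r * r₁⁻¹, mul_mem hr (inv_mem hr₁), by rw [← hrq, ← mul_smul, inv_mul_cancel_right]⟩
    · rintro ⟨r, hr, rfl⟩
      exact ⟨r * r₁, mul_mem hr hr₁, by rw [mul_smul, hrq]⟩
  set T : Subgroup ↥R := (MulAction.stabilizer G q₁).subgroupOf R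
  have hTne : T ≠ ⊤ := fun he => hq₁ne (hfix q₁ fun w hw => by
    have : (⟨w, Subgroup.mem_sup_right hw⟩ : ↥R) ∈ T := he ▸ Subgroup.mem_top _
    exact this)
  obtain ⟨U₀, hU₀, hTU⟩ := (eq_top_or_exists_le_coatom T).resolve_left hTne
  have hRp : IsPGroup p ↥R := S.2.to_le hRS
  haveI := PGroup.normal_of_isCoatom hRp hU₀
  have hU₀i := PGroup.index_of_isCoatom hRp hU₀
  set U := U₀.map R.subtype with hU
  have hUR : U ≤ R := map_subtype_le U₀
  have hxU : x ∈ U := ⟨⟨x, hxR⟩, hTU (show x • q₁ = q₁ from hxq₁), rfl⟩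
  have hRnU : R ≤ Subgroup.normalizer (U : Set G) := by
    intro r hr
    refine mem_normalizer_iff.2 fun g => ?_
    constructor
    · rintro ⟨g, hg, rfl⟩
      exact ⟨⟨r, hr⟩ * g * ⟨r, hr⟩⁻¹, Normal.conj_mem inferInstance g hg _, rfl⟩
    · intro hg
      have hgR : g ∈ R := by
        have := mul_mem (mul_mem (inv_mem hr) (hUR hg)) hr
        simpa [mul_assoc] using this
      obtain ⟨g', hg', he⟩ := hg
      refine ⟨⟨g, hgR⟩, ?_, rfl⟩
      have := Normal.conj_mem (inferInstance : U₀.Normal) g' hg' (⟨r, hr⟩⁻¹)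
      have heq : (⟨r, hr⟩ : ↥R)⁻¹ * g' * (⟨r, hr⟩ : ↥R)⁻¹⁻¹ = ⟨g, hgR⟩ := by
        refine Subtype.ext ?_
        simp only [inv_inv, Subgroup.coe_mul, InvMemClass.coe_inv]
        rw [show (g' : G) = r * g * r⁻¹ from he]
        group
      exact heq ▸ this
  obtain ⟨z, hzW, hzU⟩ : ∃ z ∈ W, z ∉ U := by
    by_contra hcon
    push Not at hcon
    refine hU₀.1 (top_le_iff.1 fun r _ => ?_)
    have hRU : R ≤ U := sup_le (zpowers_le.2 hxU) hcon
    obtain ⟨r', hr', he⟩ := hRU r.2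
    rwa [← Subtype.ext (show (r' : G) = r from he)]
  have hzR : z ∈ R := Subgroup.mem_sup_right hzW
  set z' : ↥R := ⟨z, hzR⟩
  have hz' : z' ∉ U₀ := fun hm => hzU ⟨z', hm, rfl⟩
  have hzpow : ∀ n : ℕ, z' ^ n ∈ U₀ ↔ p ∣ n := by
    intro n
    rw [← QuotientGroup.eq_one_iff, ← QuotientGroup.mk'_apply, map_pow, ← orderOf_dvd_iff_pow_eq_one]
    have : orderOf (QuotientGroup.mk' U₀ z') = p := by
      refine orderOf_eq_prime ?_ fun h1 => hz' ((QuotientGroup.eq_one_iff _).1 h1)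
      rw [← hU₀i, Subgroup.index, pow_card_eq_one']
    rw [this]
  have hgen : ∀ r : ↥R, ∃ i < p, ∃ v ∈ U₀, r = z' ^ i * v := by
    intro r
    haveI : Fact (Nat.card (↥R ⧸ U₀)).Prime := ⟨by rw [← Subgroup.index, hU₀i]; exact Fact.out⟩
    have hne : QuotientGroup.mk' U₀ z' ≠ 1 := fun h1 => hz' ((QuotientGroup.eq_one_iff _).1 h1)
    have hm : QuotientGroup.mk' U₀ r ∈ zpowers (QuotientGroup.mk' U₀ z') :=
      mem_zpowers_of_prime_card (p := Nat.card (↥R ⧸ U₀)) rfl hne
    rw [mem_zpowers_iff_mem_range_orderOf, Finset.mem_image] at hm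
    obtain ⟨i, hi, he⟩ := hm
    refine ⟨i, ?_, (z' ^ i)⁻¹ * r, ?_, (mul_inv_cancel_left _ _).symm⟩
    · have := orderOf_dvd_natCard (QuotientGroup.mk' U₀ z')
      rw [← Subgroup.index, hU₀i] at this
      exact (Finset.mem_range.1 hi).trans_le (Nat.le_of_dvd (Fact.out : p.Prime).pos this)
    · rw [← QuotientGroup.eq_one_iff, ← QuotientGroup.mk'_apply, map_mul, map_inv, map_pow, he,
        inv_mul_cancel]
  set B : Finset (G ⧸ N) := Finset.univ.filter (fun b => ∃ v ∈ U, v • q₁ = b)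
  have hBmem : ∀ b, b ∈ B ↔ ∃ v ∈ U, v • q₁ = b := fun b => by simp [B]
  have hBinv : ∀ v ∈ U, ∀ b ∈ B, v • b ∈ B := by
    intro v hv b hb
    obtain ⟨v', hv', rfl⟩ := (hBmem b).1 hb
    exact (hBmem _).2 ⟨v * v', mul_mem hv hv', mul_smul _ _ _⟩
  set F : G → Multiplicative (ZMod p) := fun g => ∏ b ∈ B, cval φ g b with hF
  have hperm : ∀ v ∈ U, ∀ f : G ⧸ N → Multiplicative (ZMod p),
      ∏ b ∈ B, f (v • b) = ∏ b ∈ B, f b := by
    intro v hv f
    exact Finset.prod_equiv (MulAction.toPerm v) (fun b => ⟨hBinv v hv b, fun hb => by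
      simpa using hBinv v⁻¹ (inv_mem hv) _ hb⟩) fun b _ => rfl
  refine ⟨x, hxS, z, hzW, U, F, hUR.trans hRS, hxU, hRnU hzR, le_sup_right.trans hRnU, hzU, ?_,
    ?_, ?_, ?_⟩
  · have h1 : U.relIndex W ≠ 1 := fun h1 => hzU (relIndex_eq_one.1 h1 hzW)
    rw [inf_relIndex_left]
    haveI hUn : (U.subgroupOf R).Normal := by
      rw [hU, subgroupOf, comap_map_eq_self_of_injective R.subtype_injective]; infer_instance
    have h2 : U.relIndex R = p := by
      rw [relIndex, hU, subgroupOf, comap_map_eq_self_of_injective R.subtype_injective, hU₀i]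
    have h3 : U.relIndex W ∣ p := by
      rw [← h2, ← relIndex_subgroupOf (H := U) (le_sup_right : W ≤ R)]
      exact relIndex_dvd_index_of_normal _ _
    exact ((Nat.dvd_prime Fact.out).1 h3).resolve_left h1
  · have h1 : x⁻¹ * z⁻¹ * x ∈ W := by
      have h2 := (mem_normalizer_iff.1 (hSN (inv_mem hxS)) z⁻¹).1 (inv_mem hzW)
      simpa using h2
    exact mul_mem h1 hzW
  · intro v _ w hw
    simp only [hF, cval_mul, Finset.prod_mul_distrib]
    rw [hperm w hw (cval φ v)]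
  · have hterm : ∀ i : ℕ, F ((z ^ i)⁻¹ * x * z ^ i) = ∏ b ∈ B, cval φ x (z ^ i • b) := by
      intro i
      have hzi : (z ^ i)⁻¹ ∈ Subgroup.normalizer (U : Set G) :=
        inv_mem (pow_mem (hRnU hzR) i)
      have hv : (z ^ i)⁻¹ * x * z ^ i ∈ U := by
        simpa using (mem_normalizer_iff.1 hzi x).1 hxU
      have hsplit : ∀ b, cval φ ((z ^ i)⁻¹ * x * z ^ i) b =
          cval φ (z ^ i)⁻¹ (z ^ i • ((z ^ i)⁻¹ * x * z ^ i) • b) * cval φ x (z ^ i • b) *
            cval φ (z ^ i) b := by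
        intro b
        rw [cval_mul, cval_mul, ← mul_smul (z ^ i) ((z ^ i)⁻¹ * x * z ^ i), ← mul_smul x,
          show z ^ i * ((z ^ i)⁻¹ * x * z ^ i) = x * z ^ i by group]
      simp only [hF, hsplit, Finset.prod_mul_distrib]
      rw [hperm _ hv (fun b => cval φ (z ^ i)⁻¹ (z ^ i • b)), mul_right_comm,
        ← Finset.prod_mul_distrib, Finset.prod_eq_one fun b _ => ?_, one_mul]
      rw [← cval_mul, inv_mul_cancel, cval_one]
    have hdisj : Set.InjOn (fun ib : ℕ × (G ⧸ N) => z ^ ib.1 • ib.2) ↑(Finset.range p ×ˢ B) := by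
      rintro ⟨i, b⟩ hib ⟨j, c⟩ hjc he
      simp only [Finset.coe_product, Set.mem_prod, Finset.coe_range, Set.mem_Iio,
        Finset.mem_coe] at hib hjc
      simp only at he
      obtain ⟨hi, hb⟩ := hib
      obtain ⟨hj, hc⟩ := hjc
      obtain ⟨v, ⟨v', hv', rfl⟩, rfl⟩ := (hBmem b).1 hb
      obtain ⟨w, ⟨w', hw', rfl⟩, rfl⟩ := (hBmem c).1 hc
      have hmem : (z' ^ j * w')⁻¹ * (z' ^ i * v') ∈ T := by
        show ((((z' ^ j * w')⁻¹ * (z' ^ i * v') : ↥R)) : G) • q₁ = q₁
        simp only [Subgroup.coe_mul, InvMemClass.coe_inv, SubmonoidClass.coe_pow, z']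
        rw [mul_smul, mul_smul (z ^ i)]
        erw [he]
        rw [← mul_smul (z ^ j)]
        exact inv_smul_smul _ _
      have h2 : QuotientGroup.mk' U₀ z' ^ i = QuotientGroup.mk' U₀ z' ^ j := by
        have := (QuotientGroup.eq_one_iff _).2 (hTU hmem)
        rw [← QuotientGroup.mk'_apply, map_mul, map_inv, map_mul, map_mul, map_pow, map_pow,
          show QuotientGroup.mk' U₀ v' = 1 from (QuotientGroup.eq_one_iff _).2 hv',
          show QuotientGroup.mk' U₀ w' = 1 from (QuotientGroup.eq_one_iff _).2 hw', mul_one, mul_one,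
          inv_mul_eq_one] at this
        exact this.symm
      have hij : i = j := by
        have hord : orderOf (QuotientGroup.mk' U₀ z') = p := by
          refine orderOf_eq_prime ?_ fun h1 => hz' ((QuotientGroup.eq_one_iff _).1 h1)
          rw [← map_pow]
          exact (QuotientGroup.eq_one_iff _).2 ((hzpow p).2 dvd_rfl)
        exact pow_injOn_Iio_orderOf (by rw [hord]; exact hi) (by rw [hord]; exact hj) h2
      subst hij
      rw [smul_left_cancel_iff] at he
      rw [Prod.mk.injEq]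
      exact ⟨rfl, he⟩
    have hOimg : O = (Finset.range p ×ˢ B).image (fun ib : ℕ × (G ⧸ N) => z ^ ib.1 • ib.2) := by
      ext b
      rw [hO₁, Finset.mem_image]
      constructor
      · rintro ⟨r, hr, rfl⟩
        obtain ⟨i, hi, v, hv, he⟩ := hgen ⟨r, hr⟩
        refine ⟨(i, (v : G) • q₁), Finset.mem_product.2 ⟨Finset.mem_range.2 hi,
          (hBmem _).2 ⟨v, ⟨v, hv, rfl⟩, rfl⟩⟩, ?_⟩
        rw [← mul_smul]
        exact congrArg (· • q₁) (congrArg Subtype.val he).symm
      · rintro ⟨⟨i, c⟩, hic, rfl⟩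
        obtain ⟨v, hv, rfl⟩ := (hBmem c).1 (Finset.mem_product.1 hic).2
        exact ⟨z ^ i * v, mul_mem (pow_mem hzR i) (hUR hv), mul_smul _ _ _⟩
    rw [hOimg, Finset.prod_image hdisj, Finset.prod_product] at hOne
    simpa only [hterm] using hOne

end Cfsg.Agent.LocalP.Yoshida
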