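import Cfsg.Agent.LocalP.Subnormal
import Mathlib.GroupTheory.Transfer

/-!
The norm map on an abelian subgroup, and subnormal subgroups in characteristic `p`.
-/

namespace Cfsg.Agent.LocalP

open Subgroup
open scoped commutatorElement

variable {G : Type*} [Group G] [Finite G] {p : ℕ} [hp : Fact p.Prime]

/-- `T` has index prime to `p` in `L` when `T` is a Sylow subgroup and `L` is subnormal. -/
theorem not_dvd_relIndex_sylow_subnormal (T : Sylow p G) {L : Subgroup G} (hL : L.IsSubnormal) :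
    ¬ p ∣ (T : Subgroup G).relIndex L := by
  induction hL with
  | top => rw [Subgroup.relIndex_top_right]; exact T.not_dvd_index
  | step Y Z hle _ hn ih =>
    intro hd
    apply ih
    have := hn
    have h := hd.trans ((Subgroup.relIndex_subgroupOf (H := (T : Subgroup G)) hle) ▸
      (relIndex_dvd_index ((T : Subgroup G).subgroupOf Z) (Y.subgroupOf Z)))
    exact h

/-- The norm of a `T`-fixed element of the abelian group `V` under `K ≥ T`. -/
theorem exists_norm {V K T : Subgroup G} (hV : IsMulCommutative V)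
    (hK : K ≤ Subgroup.normalizer (V : Set G)) (hTK : T ≤ K) :
    ∃ N : G → G,
      (∀ v ∈ V ⊓ Subgroup.centralizer (T : Set G), N v ∈ V ⊓ Subgroup.centralizer (K : Set G)) ∧
      (∀ v ∈ V ⊓ Subgroup.centralizer (T : Set G), ∀ w ∈ V ⊓ Subgroup.centralizer (T : Set G),
        N (v * w) = N v * N w) ∧
      (∀ D : Subgroup G, ∀ v ∈ V ⊓ Subgroup.centralizer (T : Set G),
        (∀ k ∈ K, k * v * k⁻¹ * v⁻¹ ∈ D) → (v ^ T.relIndex K)⁻¹ * N v ∈ D) ∧
      (∀ v ∈ V, (∀ k ∈ K, Commute k v) → N v = v ^ T.relIndex K) ∧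
      (∀ g ∈ Subgroup.normalizer (V : Set G), g ∈ Subgroup.normalizer (K : Set G) →
        g ∈ Subgroup.normalizer (T : Set G) →
        ∀ v ∈ V ⊓ Subgroup.centralizer (T : Set G), N (g * v * g⁻¹) = g * N v * g⁻¹) := by
  classical
  letI : CommGroup ↥V := { (inferInstance : Group ↥V) with mul_comm := hV.is_comm.comm }
  let Q := ↥K ⧸ T.subgroupOf K
  haveI : Fintype Q := Fintype.ofFinite _
  let F : G → Q → ↥V := fun v q => if h : v ∈ V then
    ⟨(q.out : ↥K) * v * ((q.out : ↥K) : G)⁻¹,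
      (Subgroup.mem_normalizer_iff.1 (hK q.out.2) v).1 h⟩ else 1
  let N : G → G := fun v => ((∏ q : Q, F v q : ↥V) : G)
  have hF : ∀ v ∈ V ⊓ Subgroup.centralizer (T : Set G), ∀ k : ↥K,
      (F v (QuotientGroup.mk k) : G) = (k : G) * v * (k : G)⁻¹ := by
    intro v hv k
    simp only [F, dif_pos (show v ∈ V from hv.1)]
    obtain ⟨t, ht⟩ := QuotientGroup.mk_out_eq_mul (T.subgroupOf K) k
    rw [ht]
    have htc : ((t : ↥K) : G) * v = v * ((t : ↥K) : G) :=
      Subgroup.mem_centralizer_iff.1 hv.2 _ t.2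
    push_cast
    calc (k : G) * ((t : ↥K) : G) * v * ((k : G) * ((t : ↥K) : G))⁻¹
        = (k : G) * (((t : ↥K) : G) * v) * ((t : ↥K) : G)⁻¹ * (k : G)⁻¹ := by group
      _ = (k : G) * v * (k : G)⁻¹ := by rw [htc]; group
  have hcard : Fintype.card Q = T.relIndex K := by
    rw [← Nat.card_eq_fintype_card]; rfl
  refine ⟨N, fun v hv => ⟨(∏ q : Q, F v q : ↥V).2, Subgroup.mem_centralizer_iff.2 fun k hk => ?_⟩,
    fun v hv w hw => ?_, fun D v hv hD => ?_, fun v hv hc => ?_,
    fun g hgV hgK hgT v hv => ?_⟩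
  · let σ : ↥V →* ↥V :=
    { toFun := fun x => ⟨k * x * k⁻¹, (Subgroup.mem_normalizer_iff.1 (hK hk) x).1 x.2⟩
      map_one' := Subtype.ext (by simp)
      map_mul' := fun x y => Subtype.ext (by simp [mul_assoc]) }
    have hσ : σ (∏ q : Q, F v q) = ∏ q : Q, F v q := by
      rw [map_prod]
      refine Fintype.prod_equiv (MulAction.toPerm (⟨k, hk⟩ : ↥K)) _ _ fun q => ?_
      induction q using QuotientGroup.induction_on with
      | H a =>
        apply Subtype.ext
        show k * (F v (QuotientGroup.mk a) : G) * k⁻¹ =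
          (F v (QuotientGroup.mk ((⟨k, hk⟩ : ↥K) * a)) : G)
        rw [hF v hv, hF v hv]
        push_cast; group
    exact mul_inv_eq_iff_eq_mul.1 (congrArg Subtype.val hσ)
  · show ((∏ q : Q, F (v * w) q : ↥V) : G) = _
    rw [← Subgroup.coe_mul, ← Finset.prod_mul_distrib]
    congr 1
    refine Finset.prod_congr rfl fun q _ => ?_
    induction q using QuotientGroup.induction_on with
    | H a =>
      apply Subtype.ext
      rw [Subgroup.coe_mul, hF _ hv, hF _ hw, hF _ (mul_mem hv hw)]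
      group
  · let D' : Subgroup ↥V := D.subgroupOf V
    have h1 : ∀ q : Q, (QuotientGroup.mk (F v q) : ↥V ⧸ D') = QuotientGroup.mk ⟨v, hv.1⟩ := by
      intro q
      induction q using QuotientGroup.induction_on with
      | H a =>
        rw [eq_comm, QuotientGroup.eq, Subgroup.mem_subgroupOf]
        show v⁻¹ * (F v (QuotientGroup.mk a) : G) ∈ D
        rw [hF v hv]
        have hc : Commute v⁻¹ ((a : G) * v * (a : G)⁻¹) := by
          have := hV.is_comm.comm (⟨v⁻¹, inv_mem hv.1⟩ : ↥V)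
            ⟨(a : G) * v * (a : G)⁻¹, (Subgroup.mem_normalizer_iff.1 (hK a.2) v).1 hv.1⟩
          exact congrArg Subtype.val this
        rw [hc.eq]
        exact hD a a.2
    have h2 : (QuotientGroup.mk ((⟨v, hv.1⟩ : ↥V) ^ T.relIndex K) : ↥V ⧸ D') =
        QuotientGroup.mk (∏ q : Q, F v q) := by
      rw [← QuotientGroup.mk'_apply, ← QuotientGroup.mk'_apply, map_prod, map_pow]
      simp only [QuotientGroup.mk'_apply]
      rw [Finset.prod_congr rfl (fun q _ => h1 q), Finset.prod_const, Finset.card_univ, hcard]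
    rw [QuotientGroup.eq, Subgroup.mem_subgroupOf] at h2
    simpa using h2
  · have hvT : v ∈ V ⊓ Subgroup.centralizer (T : Set G) :=
      ⟨hv, Subgroup.mem_centralizer_iff.2 fun t ht => (hc t (hTK ht)).eq⟩
    have h1 : ∀ q : Q, F v q = ⟨v, hv⟩ := by
      intro q
      induction q using QuotientGroup.induction_on with
      | H a =>
        apply Subtype.ext
        rw [hF v hvT, (hc a a.2).eq]
        group
    show ((∏ q : Q, F v q : ↥V) : G) = _
    rw [Finset.prod_congr rfl (fun q _ => h1 q), Finset.prod_const, Finset.card_univ, hcard]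
    simp
  · let σ : ↥V →* ↥V :=
    { toFun := fun x => ⟨g * x * g⁻¹, (Subgroup.mem_normalizer_iff.1 hgV x).1 x.2⟩
      map_one' := Subtype.ext (by simp)
      map_mul' := fun x y => Subtype.ext (by simp [mul_assoc]) }
    let c : ↥K ≃ ↥K :=
    { toFun := fun k => ⟨g * k * g⁻¹, (Subgroup.mem_normalizer_iff.1 hgK k).1 k.2⟩
      invFun := fun k => ⟨g⁻¹ * k * g, (Subgroup.mem_normalizer_iff''.1 hgK k).1 k.2⟩
      left_inv := fun k => Subtype.ext (by simp [mul_assoc])
      right_inv := fun k => Subtype.ext (by simp [mul_assoc]) }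
    let e : Q ≃ Q := Quotient.congr c (by
      intro a b
      rw [QuotientGroup.leftRel_apply, QuotientGroup.leftRel_apply, Subgroup.mem_subgroupOf,
        Subgroup.mem_subgroupOf]
      rw [Subgroup.mem_normalizer_iff.1 hgT]
      constructor <;> intro h <;> convert h using 1 <;> simp [c, mul_assoc])
    have hgv : g * v * g⁻¹ ∈ V ⊓ Subgroup.centralizer (T : Set G) := by
      refine ⟨(Subgroup.mem_normalizer_iff.1 hgV v).1 hv.1, Subgroup.mem_centralizer_iff.2 fun t ht => ?_⟩
      have := Subgroup.mem_centralizer_iff.1 hv.2 _ ((Subgroup.mem_normalizer_iff''.1 hgT t).1 ht)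
      calc t * (g * v * g⁻¹) = g * (g⁻¹ * t * g * v) * g⁻¹ := by group
        _ = g * v * g⁻¹ * t := by rw [this]; group
    have hσ : σ (∏ q : Q, F v q) = ∏ q : Q, F (g * v * g⁻¹) q := by
      rw [map_prod]
      refine Fintype.prod_equiv e _ _ fun q => ?_
      induction q using QuotientGroup.induction_on with
      | H a =>
        apply Subtype.ext
        show g * (F v (QuotientGroup.mk a) : G) * g⁻¹ =
          (F (g * v * g⁻¹) (QuotientGroup.mk (c a)) : G)
        rw [hF v hv, hF _ hgv]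
        simp [c, mul_assoc]
    exact (congrArg Subtype.val hσ).symm

/-- Norm argument: a `T`-fixed element is a fixed element times an element of `D`. -/
theorem mem_sup_of_norm {V K T D : Subgroup G} (hV : Cfsg.IsElementaryAbelian p V)
    (hK : K ≤ Subgroup.normalizer (V : Set G)) (hTK : T ≤ K) (hi : ¬ p ∣ T.relIndex K) {v : G}
    (hv : v ∈ V) (hvT : ∀ t ∈ T, Commute t v) (hD : ∀ k ∈ K, k * v * k⁻¹ * v⁻¹ ∈ D) :
    v ∈ D ⊔ (V ⊓ Subgroup.centralizer (K : Set G)) := by
  obtain ⟨N, h1, -, h3, -, -⟩ := exists_norm hV.1 hK hTK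
  have hv' : v ∈ V ⊓ Subgroup.centralizer (T : Set G) :=
    ⟨hv, Subgroup.mem_centralizer_iff.2 fun t ht => (hvT t ht).eq⟩
  have h4 : v ^ T.relIndex K ∈ D ⊔ (V ⊓ Subgroup.centralizer (K : Set G)) := by
    have h5 := h3 D v hv' hD
    have e : v ^ T.relIndex K = N v * ((v ^ T.relIndex K)⁻¹ * N v)⁻¹ := by group
    rw [e]
    exact mul_mem (Subgroup.mem_sup_right (h1 v hv')) (inv_mem (Subgroup.mem_sup_left h5))
  have hcop : (T.relIndex K).Coprime (orderOf v) :=
    Nat.Coprime.coprime_dvd_right (orderOf_dvd_of_pow_eq_one (hV.2 v hv))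
      ((Cores.coprime_iff_not_dvd_prime hp.1).2 hi)
  obtain ⟨m, hm⟩ := exists_pow_eq_self_of_coprime hcop
  rw [← hm]
  exact pow_mem h4 m

/-- `O_p(G)` normalizes `O^p(L)` for subnormal `L`. -/
theorem pCore_le_normalizer_resOf {L : Subgroup G} (hL : L.IsSubnormal) :
    Cfsg.pCore p G ≤ Subgroup.normalizer (resOf p L : Set G) := by
  set U := Cfsg.pCore p G ⊔ L with hU
  have hdvd : L.relIndex U ∣ Nat.card ↥(Cfsg.pCore p G) := by
    have h1 : L.relIndex U * Nat.card ↥L = Nat.card ↥U := by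
      rw [← Nat.card_congr (Subgroup.subgroupOfEquivOfLe (le_sup_right : L ≤ U)).toEquiv]
      exact (L.subgroupOf U).index_mul_card
    have h2 : Nat.card ↥U ∣ Nat.card ↥(Cfsg.pCore p G) * Nat.card ↥L := by
      rw [hU, sup_comm, mul_comm]; exact Cores.card_sup_dvd_mul L _
    rw [← h1] at h2
    exact Nat.dvd_of_mul_dvd_mul_right Nat.card_pos h2
  obtain ⟨e, he⟩ := IsPGroup.iff_card.1 (Cores.pCore_isPGroup (p := p) (G := G))
  rw [he] at hdvd
  obtain ⟨i, -, hi⟩ := (Nat.dvd_prime_pow hp.1).1 hdvd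
  have h3 : resOf p U ≤ L := by
    have h := Subgroup.map_mono (f := U.subtype)
      (pResidual_le_of_isSubnormal (hL.subgroupOf (K := U)) i hi)
    rwa [Subgroup.map_subgroupOf_eq_of_le le_sup_right] at h
  have h4 : resOf p U = resOf p L :=
    le_antisymm ((resOf_resOf U).ge.trans (resOf_mono h3)) (resOf_mono le_sup_right)
  exact le_sup_left.trans ((le_normalizer_resOf U).trans_eq (by rw [h4]))

theorem charP_of_normal {N : Subgroup G} [hN : N.Normal]
    (hG : Subgroup.centralizer (Cfsg.pCore p G : Set G) ≤ Cfsg.pCore p G) :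
    Subgroup.centralizer (Cfsg.pCore p ↥N : Set ↥N) ≤ Cfsg.pCore p ↥N := by
  have hmap : (Subgroup.centralizer (Cfsg.pCore p ↥N : Set ↥N)).map N.subtype =
      N ⊓ Subgroup.centralizer (Cfsg.pCoreOf p N : Set G) := by
    apply le_antisymm
    · rintro _ ⟨x, hx, rfl⟩
      refine ⟨x.2, Subgroup.mem_centralizer_iff.2 ?_⟩
      rintro _ ⟨y, hy, rfl⟩
      exact congrArg Subtype.val (Subgroup.mem_centralizer_iff.1 hx y hy)
    · rintro x ⟨hx, hx'⟩
      refine ⟨⟨x, hx⟩, Subgroup.mem_centralizer_iff.2 fun y hy => Subtype.ext ?_, rfl⟩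
      exact Subgroup.mem_centralizer_iff.1 hx' _ ⟨y, hy, rfl⟩
  intro x hx
  have hx' : (x : G) ∈ N ⊓ Subgroup.centralizer (Cfsg.pCoreOf p N : Set G) :=
    hmap.le ⟨x, hx, rfl⟩
  have hcn : (Cfsg.pCoreOf p N).Normal := Cores.normal_map_subtype_of_characteristic _
  set C := N ⊓ Subgroup.centralizer (Cfsg.pCoreOf p N : Set G) with hC
  have hCp : IsPGroup p C := by
    refine isPGroup_of_forall_coprime fun u hu hup => ?_
    refine eq_one_of_mem_isPGroup Cores.pCore_isPGroup (hG ?_) hup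
    rw [Subgroup.mem_centralizer_iff]
    intro r hr
    refine (commute_of_commutator_le (A := Cfsg.pCoreOf p N) (pCoreOf_isPGroup N) hup
      (fun a ha => (Subgroup.mem_centralizer_iff.1 hu.2 a ha).symm) ?_ hr).eq.symm
    rw [pCoreOf_normal_eq]
    refine le_inf ((Subgroup.commutator_mono le_rfl (Subgroup.zpowers_le.2 hu.1)).trans
      (Subgroup.commutator_le_right _ _)) (Subgroup.commutator_le_left _ _)
  obtain ⟨y, hy, hyx⟩ : (x : G) ∈ Cfsg.pCoreOf p N := by
    rw [pCoreOf_normal_eq]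
    exact ⟨x.2, Cores.le_pCore inferInstance hCp hx'⟩
  rwa [← N.subtype_injective hyx]

theorem charP_congr {H : Type*} [Group H] (e : G ≃* H)
    (hG : Subgroup.centralizer (Cfsg.pCore p G : Set G) ≤ Cfsg.pCore p G) :
    Subgroup.centralizer (Cfsg.pCore p H : Set H) ≤ Cfsg.pCore p H := by
  intro x hx
  rw [← Cores.map_pCore_equiv e]
  refine ⟨e.symm x, hG ?_, e.apply_symm_apply x⟩
  rw [Subgroup.mem_centralizer_iff]
  intro y hy
  apply e.injective
  rw [map_mul, map_mul, e.apply_symm_apply]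
  exact Subgroup.mem_centralizer_iff.1 hx (e y) (Cores.map_pCore_equiv (p := p) e ▸ ⟨y, hy, rfl⟩)

/-- Subnormal subgroups inherit characteristic `p`. -/
theorem charP_of_subnormal {L : Subgroup G} (hL : L.IsSubnormal)
    (hG : Subgroup.centralizer (Cfsg.pCore p G : Set G) ≤ Cfsg.pCore p G) :
    Subgroup.centralizer (Cfsg.pCore p ↥L : Set ↥L) ≤ Cfsg.pCore p ↥L := by
  induction hL with
  | top => exact charP_congr Subgroup.topEquiv.symm hG
  | step Y Z hle _ hn ih =>
    exact charP_congr (Subgroup.subgroupOfEquivOfLe hle) (charP_of_normal (hN := hn) ih)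

/-- In characteristic `p` a normal `p'`-free: `C_G(O_p(G))` is a `p`-group contained in `O_p(G)`. -/
theorem le_pCore_of_commute_pCore
    (hG : Subgroup.centralizer (Cfsg.pCore p G : Set G) ≤ Cfsg.pCore p G) {x : G}
    (hx : ∀ y ∈ Cfsg.pCore p G, Commute x y) : x ∈ Cfsg.pCore p G :=
  hG (Subgroup.mem_centralizer_iff.2 fun y hy => (hx y hy).eq.symm)

end Cfsg.Agent.LocalP
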