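import Cfsg.Agent.LocalP.Norm
import Cfsg.Prelude.Def_LocalEven
import Cfsg.Prelude.Def_PLocal

/-!
`p`-reduced normal subgroups and the largest one.
-/

namespace Cfsg.Agent.LocalP

open Subgroup
open scoped commutatorElement

variable {G : Type*} [Group G] {p : ℕ}

/-- `L` acts on `V` with trivial `O_p` of the image. -/
def RedAct (p : ℕ) (V L : Subgroup G) : Prop :=
  ∀ Q : Subgroup G, Q ≤ L → L ≤ Subgroup.normalizer (Q : Set G) →
    (∀ q ∈ Q, ∃ e : ℕ, q ^ p ^ e ∈ Subgroup.centralizer (V : Set G)) →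
    Q ≤ Subgroup.centralizer (V : Set G)

theorem normalizer_le_normalizer_centralizer (V : Subgroup G) :
    Subgroup.normalizer (V : Set G) ≤
      Subgroup.normalizer ((Subgroup.centralizer (V : Set G) : Subgroup G) : Set G) := by
  apply le_normalizer_of_conj_mem
  intro g hg c hc
  rw [Subgroup.mem_centralizer_iff] at hc ⊢
  intro v hv
  have := hc _ ((Subgroup.mem_normalizer_iff''.1 hg v).1 hv)
  calc v * (g * c * g⁻¹) = g * (g⁻¹ * v * g * c) * g⁻¹ := by group
    _ = g * c * g⁻¹ * v := by rw [this]; group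

theorem isPReducedNormal_iff [Finite G] [Fact p.Prime] (V : Subgroup G) :
    Cfsg.IsPReducedNormal p V ↔ V.Normal ∧ Cfsg.IsElementaryAbelian p V ∧ RedAct p V ⊤ := by
  constructor
  · rintro ⟨hn, he, hc, hcore⟩
    refine ⟨hn, he, fun Q _ hQ hpow => ?_⟩
    haveI := hc
    haveI : Q.Normal := Subgroup.normalizer_eq_top_iff.1 (top_le_iff.1 hQ)
    have h1 : Q.map (QuotientGroup.mk' (Subgroup.centralizer (V : Set G))) ≤ ⊥ := by
      rw [← hcore]
      refine Cores.le_pCore (Subgroup.Normal.map ‹_› _ (QuotientGroup.mk'_surjective _)) ?_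
      rintro ⟨_, q, hq, rfl⟩
      obtain ⟨e, he'⟩ := hpow q hq
      refine ⟨e, Subtype.ext ?_⟩
      rw [SubmonoidClass.coe_pow, ← map_pow]
      exact (QuotientGroup.eq_one_iff _).2 he'
    rwa [le_bot_iff, Subgroup.map_eq_bot_iff, QuotientGroup.ker_mk'] at h1
  · rintro ⟨hn, he, hred⟩
    haveI := hn
    have hc : (Subgroup.centralizer (V : Set G)).Normal := inferInstance
    refine ⟨hn, he, hc, ?_⟩
    set K := (Cfsg.pCore p (G ⧸ Subgroup.centralizer (V : Set G))).comap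
      (QuotientGroup.mk' (Subgroup.centralizer (V : Set G)))
    have hK : K ≤ Subgroup.centralizer (V : Set G) := by
      refine hred K le_top (Subgroup.normalizer_eq_top (H := K)).ge fun q hq => ?_
      obtain ⟨e, he'⟩ := exists_pow_eq_one_of_mem Cores.pCore_isPGroup hq
      exact ⟨e, (QuotientGroup.eq_one_iff _).1 (by rw [QuotientGroup.mk_pow]; exact he')⟩
    rw [eq_bot_iff]
    intro q hq
    obtain ⟨g, rfl⟩ := QuotientGroup.mk'_surjective _ q
    exact Subgroup.mem_bot.2 ((QuotientGroup.eq_one_iff g).2 (hK hq))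

theorem mem_centralizer_subgroupOf {W L : Subgroup G} (hWL : W ≤ L) (q : ↥L) :
    q ∈ Subgroup.centralizer (W.subgroupOf L : Set ↥L) ↔
      (q : G) ∈ Subgroup.centralizer (W : Set G) := by
  rw [Subgroup.mem_centralizer_iff, Subgroup.mem_centralizer_iff]
  constructor
  · intro h w hw
    exact congrArg Subtype.val (h ⟨w, hWL hw⟩ hw)
  · intro h w hw
    exact Subtype.ext (h w hw)

theorem isPReducedNormal_subgroupOf_iff [Finite G] [Fact p.Prime] {W L : Subgroup G} (hWL : W ≤ L) :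
    Cfsg.IsPReducedNormal p (W.subgroupOf L) ↔
      L ≤ Subgroup.normalizer (W : Set G) ∧ Cfsg.IsElementaryAbelian p W ∧ RedAct p W L := by
  rw [isPReducedNormal_iff, Subgroup.normal_subgroupOf_iff_le_normalizer hWL]
  refine and_congr_right fun hn => and_congr ⟨fun ⟨h1, h2⟩ => ⟨⟨⟨fun a b => ?_⟩⟩, fun a ha => ?_⟩,
    fun ⟨h1, h2⟩ => ⟨⟨⟨fun a b => ?_⟩⟩, fun a ha => ?_⟩⟩ ⟨fun h Q hQL hQ hpow q hq => ?_, fun h Q _ hQ hpow q hq => ?_⟩
  · have := congrArg (fun x : ↥(W.subgroupOf L) => ((x : ↥L) : G))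
      (h1.is_comm.comm ⟨⟨a, hWL a.2⟩, a.2⟩ ⟨⟨b, hWL b.2⟩, b.2⟩)
    exact Subtype.ext this
  · exact congrArg Subtype.val (h2 ⟨a, hWL ha⟩ ha)
  · have := congrArg Subtype.val
      (h1.is_comm.comm (⟨((a : ↥L) : G), a.2⟩ : ↥W) ⟨((b : ↥L) : G), b.2⟩)
    exact Subtype.ext (Subtype.ext this)
  · exact Subtype.ext (h2 (a : G) ha)
  · have h1 := h (Q.subgroupOf L) le_top ?_ (fun q hq => ?_) (show (⟨q, hQL hq⟩ : ↥L) ∈ _ from hq)
    · exact (mem_centralizer_subgroupOf hWL _).1 h1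
    · haveI := Subgroup.normal_subgroupOf_of_le_normalizer hQ
      exact (Subgroup.normalizer_eq_top (H := Q.subgroupOf L)).ge
    · obtain ⟨e, he⟩ := hpow q hq
      exact ⟨e, (mem_centralizer_subgroupOf hWL _).2 (by simpa using he)⟩
  · rw [mem_centralizer_subgroupOf hWL]
    refine h (Q.map L.subtype) (Subgroup.map_subtype_le Q) ?_ ?_ ⟨q, hq, rfl⟩
    · apply le_normalizer_of_conj_mem
      rintro l hl _ ⟨x, hx, rfl⟩
      exact ⟨⟨l, hl⟩ * x * (⟨l, hl⟩)⁻¹,
        (Subgroup.mem_normalizer_iff.1 (hQ (Subgroup.mem_top _)) x).1 hx, by simp⟩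
    · rintro _ ⟨x, hx, rfl⟩
      obtain ⟨e, he⟩ := hpow x hx
      exact ⟨e, by simpa using (mem_centralizer_subgroupOf hWL _).1 he⟩

theorem pow_mem_iSup [Finite G] [Fact p.Prime] {ι : Type*} {Q : ι → Subgroup G} {L C : Subgroup G}
    (hQL : ∀ i, Q i ≤ L) (hn : ∀ i, L ≤ Subgroup.normalizer (Q i : Set G))
    (hC : L ≤ Subgroup.normalizer (C : Set G)) (hpow : ∀ i, ∀ q ∈ Q i, ∃ e : ℕ, q ^ p ^ e ∈ C) :
    ∀ q ∈ ⨆ i, Q i, ∃ e : ℕ, q ^ p ^ e ∈ C := by
  haveI : (C.subgroupOf L).Normal := Subgroup.normal_subgroupOf_of_le_normalizer hC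
  set M := (Cfsg.pCore p (↥L ⧸ C.subgroupOf L)).comap (QuotientGroup.mk' (C.subgroupOf L))
  have hle : (⨆ i, Q i) ≤ M.map L.subtype := by
    refine iSup_le fun i q hq => ⟨⟨q, hQL i hq⟩, ?_, rfl⟩
    haveI : ((Q i).subgroupOf L).Normal := Subgroup.normal_subgroupOf_of_le_normalizer (hn i)
    refine Cores.le_pCore (N := ((Q i).subgroupOf L).map (QuotientGroup.mk' (C.subgroupOf L)))
      (Subgroup.Normal.map inferInstance _ (QuotientGroup.mk'_surjective _)) ?_ ⟨⟨q, hQL i hq⟩, hq, rfl⟩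
    rintro ⟨_, x, hx, rfl⟩
    obtain ⟨e, he⟩ := hpow i x hx
    refine ⟨e, Subtype.ext ?_⟩
    rw [SubmonoidClass.coe_pow, ← map_pow]
    exact (QuotientGroup.eq_one_iff _).2 (by simpa [Subgroup.mem_subgroupOf] using he)
  intro q hq
  obtain ⟨x, hx, rfl⟩ := hle hq
  obtain ⟨e, he⟩ := exists_pow_eq_one_of_mem Cores.pCore_isPGroup hx
  refine ⟨e, ?_⟩
  have := (QuotientGroup.eq_one_iff _).1 (show ((x ^ p ^ e : ↥L) : ↥L ⧸ C.subgroupOf L) = 1 by
    rw [QuotientGroup.mk_pow]; exact he)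
  simpa [Subgroup.mem_subgroupOf] using this

theorem redAct_of_normal [Finite G] [Fact p.Prime] {V Y Z : Subgroup G} (hle : Y ≤ Z)
    (hn : Z ≤ Subgroup.normalizer (Y : Set G)) (hV : Z ≤ Subgroup.normalizer (V : Set G))
    (h : RedAct p V Z) : RedAct p V Y := by
  intro Q hQY hQ hpow
  set C := Subgroup.centralizer (V : Set G) with hC
  have hCn : Z ≤ Subgroup.normalizer (C : Set G) := hV.trans (normalizer_le_normalizer_centralizer V)
  have h1 : ∀ z : ↥Z, Fusion.cj (z : G) Q ≤ Y := fun z =>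
    (Fusion.cj_mono _ hQY).trans (Fusion.cj_eq_of_mem (hn z.2)).le
  have h2 : ∀ z : ↥Z, Y ≤ Subgroup.normalizer (Fusion.cj (z : G) Q : Set G) := by
    intro z
    have h3 := Fusion.cj_mono (z : G) hQ
    rwa [Fusion.cj_normalizer, Fusion.cj_eq_of_mem (hn z.2)] at h3
  have h4 : ∀ z : ↥Z, ∀ q ∈ Fusion.cj (z : G) Q, ∃ e : ℕ, q ^ p ^ e ∈ C := by
    rintro z _ ⟨q, hq, rfl⟩
    obtain ⟨e, he⟩ := hpow q hq
    refine ⟨e, ?_⟩
    rw [← map_pow]
    exact (Subgroup.mem_normalizer_iff.1 (hCn z.2) _).1 he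
  have h5 : (⨆ z : ↥Z, Fusion.cj (z : G) Q) ≤ C := by
    refine h _ (iSup_le fun z => (h1 z).trans hle) ?_
      (pow_mem_iSup h1 h2 (hle.trans hCn) h4)
    apply le_normalizer_of_conj_mem
    intro z hz x hx
    have h6 : Fusion.cj z (⨆ w : ↥Z, Fusion.cj (w : G) Q) ≤ ⨆ w : ↥Z, Fusion.cj (w : G) Q := by
      rw [Fusion.cj, Subgroup.map_iSup]
      refine iSup_le fun w => ?_
      change Fusion.cj z (Fusion.cj (w : G) Q) ≤ _
      rw [Fusion.cj_cj]
      exact le_iSup (fun w : ↥Z => Fusion.cj (w : G) Q) (⟨z, hz⟩ * w)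
    exact h6 (Fusion.conj_mem_cj.2 hx)
  refine le_trans ?_ h5
  intro q hq
  exact Subgroup.mem_iSup_of_mem (1 : ↥Z) (by rw [Subgroup.coe_one, Fusion.cj_one]; exact hq)

theorem redAct_of_subnormal [Finite G] [Fact p.Prime] {V L : Subgroup G} (hV : V.Normal)
    (hL : L.IsSubnormal) (h : RedAct p V ⊤) : RedAct p V L := by
  induction hL with
  | top => exact h
  | step Y Z hle _ hn ih =>
    exact redAct_of_normal hle ((Subgroup.normal_subgroupOf_iff_le_normalizer hle).1 hn)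
      ((Subgroup.normalizer_eq_top (H := V)).ge.trans' le_top) ih

/-- A normal elementary abelian `p`-reduced subgroup is centralized by `O_p`. -/
theorem reduced_le_center_pCore [Finite G] [Fact p.Prime] {V : Subgroup G}
    (h : Cfsg.IsPReducedNormal p V) :
    V ≤ Cfsg.pCore p G ⊓ Subgroup.centralizer (Cfsg.pCore p G : Set G) := by
  obtain ⟨hn, he, hred⟩ := (isPReducedNormal_iff V).1 h
  refine le_inf (Cores.le_pCore hn fun v => ⟨1, Subtype.ext (by simpa using he.2 v v.2)⟩) ?_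
  rw [Subgroup.le_centralizer_iff]
  refine hred _ le_top (Subgroup.normalizer_eq_top (H := Cfsg.pCore p G)).ge fun q hq => ?_
  obtain ⟨e, hq'⟩ := exists_pow_eq_one_of_mem Cores.pCore_isPGroup hq
  exact ⟨e, hq'.symm ▸ one_mem _⟩

theorem omega_elementary {H : Subgroup G} (hH : ∀ a ∈ H, ∀ b ∈ H, Commute a b) :
    Cfsg.IsElementaryAbelian p (Cfsg.omegaOne p H) := by
  have hle : Cfsg.omegaOne p H ≤ H := (Subgroup.closure_le _).2 fun _ hx => hx.1
  refine ⟨⟨⟨fun a b => Subtype.ext (hH a (hle a.2) b (hle b.2)).eq⟩⟩, fun a ha => ?_⟩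
  refine Subgroup.closure_induction (k := {x : G | x ∈ H ∧ x ^ p = 1})
    (p := fun x _ => x ^ p = 1) (fun x hx => hx.2) (one_pow p) ?_ ?_ ha
  · intro x y hx hy hx' hy'
    rw [(hH x (hle hx) y (hle hy)).mul_pow, hx', hy', one_mul]
  · intro x _ hx'
    rw [inv_pow, hx', inv_one]

theorem mem_omega {H : Subgroup G} {x : G} (hx : x ∈ H) (hp : x ^ p = 1) :
    x ∈ Cfsg.omegaOne p H :=
  Subgroup.subset_closure ⟨hx, hp⟩

theorem omega_le (H : Subgroup G) : Cfsg.omegaOne p H ≤ H :=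
  (Subgroup.closure_le _).2 fun _ hx => hx.1

theorem center_commute (H : Subgroup G) :
    ∀ a ∈ H ⊓ Subgroup.centralizer (H : Set G), ∀ b ∈ H ⊓ Subgroup.centralizer (H : Set G),
      Commute a b :=
  fun _ ha _ hb => (Subgroup.mem_centralizer_iff.1 hb.2 _ ha.1)

/-- Elementary abelian subgroup generated by members inside `Z(P)`. -/
theorem elementary_of_le_center {P V : Subgroup G}
    (h : V ≤ Cfsg.omegaOne p (P ⊓ Subgroup.centralizer (P : Set G))) :
    Cfsg.IsElementaryAbelian p V :=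
  ⟨⟨⟨fun a b => Subtype.ext
    (center_commute P a (omega_le _ (h a.2)) b (omega_le _ (h b.2))).eq⟩⟩,
    fun a ha => (omega_elementary (center_commute P)).2 a (h ha)⟩

theorem le_largestPReduced {V : Subgroup G} (h : Cfsg.IsPReducedNormal p V) :
    V ≤ Cfsg.largestPReduced p G :=
  le_sSup h

theorem largestPReduced_le_omega [Finite G] [Fact p.Prime] :
    Cfsg.largestPReduced p G ≤
      Cfsg.omegaOne p (Cfsg.pCore p G ⊓ Subgroup.centralizer (Cfsg.pCore p G : Set G)) :=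
  sSup_le fun _ hV _ hv => mem_omega (reduced_le_center_pCore hV hv) (hV.2.1.2 _ hv)

theorem largestPReduced_normal : (Cfsg.largestPReduced p G).Normal :=
  Subgroup.sSup_normal _ fun _ h => h.1

theorem largestPReduced_reduced [Finite G] [Fact p.Prime] :
    Cfsg.IsPReducedNormal p (Cfsg.largestPReduced p G) := by
  rw [isPReducedNormal_iff]
  refine ⟨largestPReduced_normal, elementary_of_le_center largestPReduced_le_omega,
    fun Q _ hQ hpow => ?_⟩
  rw [Subgroup.le_centralizer_iff]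
  refine sSup_le fun V hV => ?_
  rw [Subgroup.le_centralizer_iff]
  refine ((isPReducedNormal_iff V).1 hV).2.2 Q le_top hQ fun q hq => ?_
  obtain ⟨e, he⟩ := hpow q hq
  exact ⟨e, Subgroup.centralizer_le (SetLike.coe_subset_coe.2 (le_largestPReduced hV)) he⟩

theorem eq_largestPReduced [Finite G] [Fact p.Prime] {Y : Subgroup G}
    (h : Cfsg.IsPReducedNormal p Y ∧ ∀ V : Subgroup G, Cfsg.IsPReducedNormal p V → V ≤ Y) :
    Y = Cfsg.largestPReduced p G :=
  le_antisymm (le_largestPReduced h.1) (h.2 _ largestPReduced_reduced)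

/-- Normal closure of a reduced subgroup of an overgroup of a Sylow subgroup. -/
theorem normalClosure_reduced [Finite G] [hp : Fact p.Prime]
    (hchar : Subgroup.centralizer (Cfsg.pCore p G : Set G) ≤ Cfsg.pCore p G) (T : Sylow p G)
    {R X : Subgroup G} (hTR : (T : Subgroup G) ≤ R) (hXR : X ≤ R)
    (hn : R ≤ Subgroup.normalizer (X : Set G)) (he : Cfsg.IsElementaryAbelian p X)
    (hred : RedAct p X R) : Cfsg.IsPReducedNormal p (Subgroup.normalClosure (X : Set G)) := by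
  have hO : Cfsg.pCore p G ≤ R := (Cores.pCore_le_sylow T).trans hTR
  have hXc : X ≤ Subgroup.centralizer (Cfsg.pCore p G : Set G) := by
    rw [Subgroup.le_centralizer_iff]
    refine hred _ hO ((Subgroup.normalizer_eq_top (H := Cfsg.pCore p G)).ge.trans' le_top) fun q hq => ?_
    obtain ⟨e, hq'⟩ := exists_pow_eq_one_of_mem Cores.pCore_isPGroup hq
    exact ⟨e, hq'.symm ▸ one_mem _⟩
  set W := Cfsg.omegaOne p (Cfsg.pCore p G ⊓ Subgroup.centralizer (Cfsg.pCore p G : Set G)) with hW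
  haveI hWn : W.Normal := by
    refine ⟨fun x hx g => ?_⟩
    have hle : W.map (MulAut.conj g).toMonoidHom ≤ W := by
      nth_rewrite 1 [hW]
      rw [Cfsg.omegaOne, MonoidHom.map_closure, Subgroup.closure_le]
      rintro _ ⟨y, ⟨hy, hy'⟩, rfl⟩
      refine mem_omega ⟨(inferInstance : (Cfsg.pCore p G).Normal).conj_mem y hy.1 g,
        (inferInstance : (Subgroup.centralizer (Cfsg.pCore p G : Set G)).Normal).conj_mem y hy.2 g⟩ ?_
      rw [← map_pow, hy', map_one]
    exact hle ⟨x, hx, rfl⟩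
  have hle : Subgroup.normalClosure (X : Set G) ≤ W :=
    Subgroup.normalClosure_le_normal fun x hx => mem_omega ⟨hchar (hXc hx), hXc hx⟩ (he.2 x hx)
  rw [isPReducedNormal_iff]
  refine ⟨inferInstance, elementary_of_le_center hle, fun K _ hK hpow => ?_⟩
  haveI : K.Normal := Subgroup.normalizer_eq_top_iff.1 (top_le_iff.1 hK)
  have hpowX : ∀ q ∈ K, ∃ e : ℕ, q ^ p ^ e ∈ Subgroup.centralizer (X : Set G) := fun q hq => by
    obtain ⟨e, h⟩ := hpow q hq
    exact ⟨e, Subgroup.centralizer_le (SetLike.coe_subset_coe.2 Subgroup.le_normalClosure) h⟩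
  have hKR : K ⊓ R ≤ Subgroup.centralizer (X : Set G) :=
    hred _ inf_le_right ((le_inf ((Subgroup.normalizer_eq_top (H := K)).ge.trans' le_top)
      Subgroup.le_normalizer).trans Subgroup.inf_normalizer_le_normalizer_inf)
      (fun q hq => hpowX q hq.1)
  have hKX : K ≤ Subgroup.centralizer (X : Set G) := by
    have h1 : resOf p K ≤ Subgroup.centralizer (X : Set G) := resOf_le_of_pow_mem hpowX
    have h2 : resOf p K ⊔ ((T : Subgroup G) ⊓ K) = K :=
      resOf_sup_eq inf_le_right (not_dvd_relIndex_sylow_normal T K)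
    rw [← h2]
    exact sup_le h1 (le_trans (le_inf inf_le_right (inf_le_left.trans hTR)) hKR)
  rw [Subgroup.le_centralizer_iff]
  haveI : (Subgroup.centralizer (K : Set G)).Normal := inferInstance
  exact Subgroup.normalClosure_le_normal (Subgroup.le_centralizer_iff.1 hKX)

theorem largestPReducedOf_le (L : Subgroup G) : Cfsg.largestPReducedOf p L ≤ L :=
  Subgroup.map_subtype_le _

theorem largestPReducedOf_spec [Finite G] [Fact p.Prime] (L : Subgroup G) :
    L ≤ Subgroup.normalizer (Cfsg.largestPReducedOf p L : Set G) ∧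
      Cfsg.IsElementaryAbelian p (Cfsg.largestPReducedOf p L) ∧
      RedAct p (Cfsg.largestPReducedOf p L) L := by
  rw [← isPReducedNormal_subgroupOf_iff (largestPReducedOf_le L), Subgroup.subgroupOf,
    Cfsg.largestPReducedOf, Subgroup.comap_map_eq_self_of_injective L.subtype_injective]
  exact largestPReduced_reduced

theorem le_largestPReducedOf [Finite G] [Fact p.Prime] {W L : Subgroup G} (hWL : W ≤ L)
    (hn : L ≤ Subgroup.normalizer (W : Set G)) (he : Cfsg.IsElementaryAbelian p W)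
    (hred : RedAct p W L) : W ≤ Cfsg.largestPReducedOf p L := by
  have h := Subgroup.map_mono (f := L.subtype)
    (le_largestPReduced ((isPReducedNormal_subgroupOf_iff hWL).2 ⟨hn, he, hred⟩))
  rwa [Subgroup.map_subgroupOf_eq_of_le hWL] at h

theorem largestPReducedOf_le_pCoreOf [Finite G] [Fact p.Prime] (L : Subgroup G) :
    Cfsg.largestPReducedOf p L ≤
      Cfsg.omegaOne p (Cfsg.pCoreOf p L ⊓ Subgroup.centralizer (Cfsg.pCoreOf p L : Set G)) := by
  rintro _ ⟨x, hx, rfl⟩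
  have h1 := largestPReduced_le_omega hx
  refine mem_omega ⟨⟨x, (omega_le _ h1).1, rfl⟩, Subgroup.mem_centralizer_iff.2 ?_⟩ ?_
  · rintro _ ⟨y, hy, rfl⟩
    exact congrArg Subtype.val (Subgroup.mem_centralizer_iff.1 (omega_le _ h1).2 y hy)
  · exact congrArg Subtype.val ((omega_elementary (center_commute _)).2 x h1)

end Cfsg.Agent.LocalP
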