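import Cfsg.Agent.LocalP.PReduced
import Cfsg.Prelude.Def_Amalgam

/-!
Consequences for the largest `p`-reduced subgroup: Sylow centres and transfer between overgroups.
-/

namespace Cfsg.Agent.LocalP

open Subgroup
open scoped commutatorElement

variable {G : Type*} [Group G] [Finite G] {p : ℕ} [Fact p.Prime]

theorem charP_ambient {L : Subgroup G}
    (hL : Subgroup.centralizer (Cfsg.pCore p ↥L : Set ↥L) ≤ Cfsg.pCore p ↥L) {x : G} (hx : x ∈ L)
    (h : ∀ y ∈ Cfsg.pCoreOf p L, Commute x y) : x ∈ Cfsg.pCoreOf p L :=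
  ⟨⟨x, hx⟩, hL (Subgroup.mem_centralizer_iff.2 fun y hy =>
    Subtype.ext (h _ ⟨y, hy, rfl⟩).eq.symm), rfl⟩

theorem conj_normalizer_omega (H : Subgroup G) :
    Subgroup.normalizer (H : Set G) ≤ Subgroup.normalizer
      (Cfsg.omegaOne p (H ⊓ Subgroup.centralizer (H : Set G)) : Set G) := by
  apply le_normalizer_of_conj_mem
  intro g hg x hx
  have hle : (Cfsg.omegaOne p (H ⊓ Subgroup.centralizer (H : Set G))).map (MulAut.conj g).toMonoidHom
      ≤ Cfsg.omegaOne p (H ⊓ Subgroup.centralizer (H : Set G)) := by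
    nth_rewrite 1 [Cfsg.omegaOne]
    rw [MonoidHom.map_closure, Subgroup.closure_le]
    rintro _ ⟨y, ⟨hy, hy'⟩, rfl⟩
    exact mem_omega ⟨(Subgroup.mem_normalizer_iff.1 hg y).1 hy.1,
      (Subgroup.mem_normalizer_iff.1 (normalizer_le_normalizer_centralizer H hg) y).1 hy.2⟩
      (by rw [← map_pow, hy', map_one])
  exact hle ⟨x, hx, rfl⟩

/-- `Ω₁Z(S) ≤ Y_L` for a Sylow subgroup `S ≤ L` of `L`. -/
theorem omega_center_le_largest {L : Subgroup G}
    (hL : Subgroup.centralizer (Cfsg.pCore p ↥L : Set ↥L) ≤ Cfsg.pCore p ↥L) (S : Sylow p ↥L) :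
    Cfsg.omegaOne p ((S : Subgroup ↥L).map L.subtype ⊓
      Subgroup.centralizer (((S : Subgroup ↥L).map L.subtype : Subgroup G) : Set G)) ≤
    Cfsg.largestPReducedOf p L := by
  set X := Cfsg.omegaOne p ((S : Subgroup ↥L) ⊓ Subgroup.centralizer ((S : Subgroup ↥L) : Set ↥L))
  have hX : X ≤ Cfsg.largestPReduced p ↥L := by
    refine Subgroup.le_normalClosure.trans (le_largestPReduced (normalClosure_reduced hL S le_rfl
      ((omega_le _).trans inf_le_left) ?_ (omega_elementary (center_commute _)) ?_))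
    · exact Subgroup.le_normalizer.trans (conj_normalizer_omega _)
    · intro Q hQ _ _ q hq
      exact Subgroup.mem_centralizer_iff.2 fun x hx =>
        (Subgroup.mem_centralizer_iff.1 (omega_le _ hx).2 q (hQ hq)).symm
  refine le_trans ?_ (Subgroup.map_mono hX)
  refine (Subgroup.closure_le _).2 ?_
  rintro x ⟨⟨⟨y, hy, rfl⟩, hxc⟩, hxp⟩
  exact ⟨y, mem_omega ⟨hy, Subgroup.mem_centralizer_iff.2 fun z hz =>
    Subtype.ext (Subgroup.mem_centralizer_iff.1 hxc _ ⟨z, hz, rfl⟩)⟩ (Subtype.ext hxp), rfl⟩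

theorem largest_le_sylow {L : Subgroup G} (T : Sylow p G) (hTL : (T : Subgroup G) ≤ L) :
    Cfsg.largestPReducedOf p L ≤ (T : Subgroup G) := by
  refine ((largestPReducedOf_le_pCoreOf L).trans (omega_le _)).trans (inf_le_left.trans ?_)
  intro x hx
  obtain ⟨y, hy, rfl⟩ := hx
  exact Cores.pCore_le_sylow (T.subtype hTL) hy

/-- If `L ⊔ C(Y) = M ⊔ C(Y)` for `Y = Y_M` then `Y_M` is reduced for `L`. -/
theorem largest_le_of_factorization (T : Sylow p G) {L M : Subgroup G} (hTL : (T : Subgroup G) ≤ L)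
    (hTM : (T : Subgroup G) ≤ M)
    (h : L ⊔ Subgroup.centralizer (Cfsg.largestPReducedOf p M : Set G) =
      M ⊔ Subgroup.centralizer (Cfsg.largestPReducedOf p M : Set G)) :
    Cfsg.largestPReducedOf p M ≤ Cfsg.largestPReducedOf p L := by
  obtain ⟨hn, he, hred⟩ := largestPReducedOf_spec (p := p) M
  set Y := Cfsg.largestPReducedOf p M with hY
  set C := Subgroup.centralizer (Y : Set G) with hC
  have hCN : C ≤ Subgroup.normalizer (Y : Set G) := Subgroup.centralizer_le_normalizer _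
  have hMC : M ≤ Subgroup.normalizer (C : Set G) := hn.trans (normalizer_le_normalizer_centralizer Y)
  have hU : L ≤ M ⊔ C := h ▸ le_sup_left
  have hYn : L ≤ Subgroup.normalizer (Y : Set G) := hU.trans (sup_le hn hCN)
  refine le_largestPReducedOf ((largest_le_sylow T hTM).trans hTL) hYn he fun Q hQL hQ hpow => ?_
  set Q' := Q ⊔ C with hQ'
  have hQ'n : M ⊔ C ≤ Subgroup.normalizer (Q' : Set G) := by
    rw [← h]
    refine sup_le ((le_inf hQ (hYn.trans (normalizer_le_normalizer_centralizer Y))).trans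
      (Subgroup.normalizer_inf_normalizer_le_normalizer_sup _ _))
      (le_sup_right.trans Subgroup.le_normalizer)
  have hQC : Q ≤ Subgroup.normalizer (C : Set G) :=
    (hQL.trans hYn).trans (normalizer_le_normalizer_centralizer Y)
  have hpow' : ∀ x ∈ Q', ∃ e : ℕ, x ^ p ^ e ∈ C := by
    intro x hx
    haveI hn' : (C.subgroupOf Q').Normal :=
      Subgroup.normal_subgroupOf_of_le_normalizer (sup_le hQC Subgroup.le_normalizer)
    have hx' : x ∈ ((Q' : Subgroup G) : Set G) := hx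
    rw [hQ', Subgroup.coe_mul_of_left_le_normalizer_right Q C hQC] at hx'
    obtain ⟨q, hq, c, hc, rfl⟩ := Set.mem_mul.1 hx'
    obtain ⟨e, he'⟩ := hpow q hq
    refine ⟨e, ?_⟩
    have h1 : (((⟨q, Subgroup.mem_sup_left hq⟩ * ⟨c, Subgroup.mem_sup_right hc⟩ : ↥Q') ^ p ^ e : ↥Q') :
        ↥Q' ⧸ C.subgroupOf Q') = 1 := by
      rw [QuotientGroup.mk_pow, QuotientGroup.mk_mul,
        (QuotientGroup.eq_one_iff (⟨c, Subgroup.mem_sup_right hc⟩ : ↥Q')).2 hc, mul_one,
        ← QuotientGroup.mk_pow]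
      exact (QuotientGroup.eq_one_iff _).2 (by simpa [Subgroup.mem_subgroupOf] using he')
    simpa [Subgroup.mem_subgroupOf] using (QuotientGroup.eq_one_iff _).1 h1
  have hQ'M : Q' ⊓ M ≤ C := by
    refine hred _ inf_le_right ((le_inf (le_sup_left.trans hQ'n) Subgroup.le_normalizer).trans
      Subgroup.inf_normalizer_le_normalizer_inf) fun q hq => hpow' q hq.1
  intro q hq
  have hq' : q ∈ ((M ⊔ C : Subgroup G) : Set G) := hU (hQL hq)
  rw [Subgroup.coe_mul_of_left_le_normalizer_right M C hMC] at hq'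
  obtain ⟨m, hm, c, hc, rfl⟩ := Set.mem_mul.1 hq'
  refine mul_mem (hQ'M ⟨?_, hm⟩) hc
  have h2 : m * c ∈ Q' := Subgroup.mem_sup_left hq
  simpa using mul_mem h2 (inv_mem (Subgroup.mem_sup_right (S := Q) hc))

end Cfsg.Agent.LocalP
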