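import Cfsg.Agent.LocalP.SubnormalSylow
import Cfsg.Agent.LocalP.Norm
import Cfsg.Agent.Modules.Fixed
import Cfsg.Agent.Modules.Thompson
import Cfsg.Prelude.Def_LocalEven

/-!
Point stabilisers of subnormal subgroups of a group of local characteristic `p`.
-/

set_option autoImplicit false

namespace Cfsg.Agent.LocalP

open Subgroup CF

variable {H : Type*} [Group H] [Finite H] {p : ℕ} [hp : Fact p.Prime]

/-- `Ω₁(Z(U))`. -/
abbrev omegaZ (p : ℕ) (U : Subgroup H) : Subgroup H :=
  Cfsg.omegaOne p (U ⊓ centralizer (U : Set H))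

omit [Finite H] hp in
theorem comm_zedGroup (U : Subgroup H) : IsMulCommutative ↥(U ⊓ centralizer (U : Set H)) :=
  Modules.comm_iff.mpr fun a ha b hb => mem_centralizer_iff.mp hb.2 a ha.1

omit [Finite H] hp in
theorem omegaZ_spec {U : Subgroup H} {z : H} (hz : z ∈ omegaZ p U) :
    z ∈ U ∧ z ∈ centralizer (U : Set H) ∧ z ^ p = 1 :=
  ⟨(Modules.omegaOne_le p _ hz).1, (Modules.omegaOne_le p _ hz).2,
    (Modules.elemAb_omegaOne (comm_zedGroup U)).2 z hz⟩

omit [Finite H] hp in
theorem mem_omegaZ {U : Subgroup H} {z : H} (hz : z ∈ U) (hc : z ∈ centralizer (U : Set H))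
    (hp1 : z ^ p = 1) : z ∈ omegaZ p U :=
  Modules.mem_omegaOne_of_pow ⟨hz, hc⟩ hp1

omit [Finite H] hp in
theorem normalizer_le_normalizer_omegaZ (U : Subgroup H) :
    normalizer (U : Set H) ≤ normalizer (omegaZ p U : Set H) :=
  ((le_inf le_rfl (Modules.normalizes_centralizer le_rfl)).trans
    inf_normalizer_le_normalizer_inf).trans (Modules.normalizer_le_normalizer_omegaOne p _)

/-- A subgroup subnormal in a `p`-local subgroup of characteristic `p` has characteristic `p`:
its core contains its elements centralising it. -/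
theorem mem_pCoreOf_of_local (hH : Cfsg.IsOfLocalCharacteristic p H) {Z Y : Subgroup H}
    (hZ : IsPGroup p Z) (hne : Z ≠ ⊥) (hY : Y ≤ normalizer (Z : Set H))
    (hsub : (Y.subgroupOf (normalizer (Z : Set H))).IsSubnormal) {y : H} (hy : y ∈ Y)
    (hc : y ∈ centralizer (Cfsg.pCoreOf p Y : Set H)) : y ∈ Cfsg.pCoreOf p Y := by
  have h := charP_congr (subgroupOfEquivOfLe hY) (charP_of_subnormal hsub (hH.2 Z hZ hne))
  have : (⟨y, hy⟩ : Y) ∈ centralizer (Cfsg.pCore p ↥Y : Set Y) := by
    refine mem_centralizer_iff.2 fun q hq => Subtype.ext ?_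
    exact mem_centralizer_iff.1 hc _ (mem_map_of_mem Y.subtype hq)
  exact ⟨_, h this, rfl⟩

/-- The normal step. -/
theorem centralizer_omegaZ_step (hH : Cfsg.IsOfLocalCharacteristic p H) (T : Sylow p H)
    {M L : Subgroup H} (hM : M.IsSubnormal) (hL : L.IsSubnormal) (hML : M ≤ L)
    (hn : L ≤ normalizer (M : Set H)) (hT1 : (T : Subgroup H) ⊓ M ≠ ⊥) :
    M ⊓ centralizer (omegaZ p ((T : Subgroup H) ⊓ L) : Set H) =
      M ⊓ centralizer (omegaZ p ((T : Subgroup H) ⊓ M) : Set H) := by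
  set TL := (T : Subgroup H) ⊓ L with hTL
  set T1 := (T : Subgroup H) ⊓ M with hT1def
  set ZL := omegaZ p TL
  set Z1 := omegaZ p T1
  have hT1L : T1 ≤ TL := inf_le_inf_left _ hML
  have hTLne : TL ≠ ⊥ := fun h => hT1 (le_bot_iff.1 (hT1L.trans h.le))
  have hTLp : IsPGroup p TL := T.2.to_inf_left
  have hT1p : IsPGroup p T1 := T.2.to_inf_left
  have hsyl1 : IsSyl p T1 M := isSyl_inf_subnormal T hM
  have hsylL : IsSyl p TL L := isSyl_inf_subnormal T hL
  have hTLM : TL ≤ normalizer (M : Set H) := inf_le_right.trans hn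
  have hTLT1 : TL ≤ normalizer (T1 : Set H) :=
    (le_inf (inf_le_left.trans le_normalizer) hTLM).trans inf_normalizer_le_normalizer_inf
  have hZLp : IsPGroup p ZL := hTLp.to_le fun z hz => (omegaZ_spec hz).1
  have hZLne : ZL ≠ ⊥ := Modules.omegaOne_center_ne_bot hTLp hTLne
  have hZ1p : IsPGroup p Z1 := hT1p.to_le fun z hz => (omegaZ_spec hz).1
  have hZ1ne : Z1 ≠ ⊥ := Modules.omegaOne_center_ne_bot hT1p hT1
  refine le_antisymm ?_ ?_
  · set X := M ⊓ centralizer (ZL : Set H) with hX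
    have hXsub : (X.subgroupOf (normalizer (ZL : Set H))).IsSubnormal := by
      set N := normalizer (ZL : Set H)
      haveI : ((centralizer (ZL : Set H)).subgroupOf N).Normal :=
        normal_subgroupOf_of_le_normalizer (Modules.normalizes_centralizer le_rfl)
      refine IsSubnormal.step _ (M.subgroupOf N) (fun x hx => hx.1) hM.subgroupOf ?_
      refine normal_subgroupOf_of_le_normalizer ?_
      rw [show X.subgroupOf N = M.subgroupOf N ⊓ (centralizer (ZL : Set H)).subgroupOf N from rfl]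
      exact (le_inf le_normalizer le_normalizer_of_normal).trans inf_normalizer_le_normalizer_inf
    have hT1X : T1 ≤ X := le_inf inf_le_right fun t ht =>
      mem_centralizer_iff.2 fun z hz =>
        (mem_centralizer_iff.1 (omegaZ_spec hz).2.1 t (hT1L ht)).symm
    have hsylX : IsSyl p T1 X := hsyl1.of_le hT1X inf_le_left
    set O := Cfsg.pCoreOf p X
    have hOT : O ≤ T1 := (hsylX.eq_of_le (U := T1 ⊔ O)
      (hT1p.to_sup_of_normal_right' (pCoreOf_isPGroup X) (hT1X.trans (le_normalizer_pCoreOf X)))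
      le_sup_left (sup_le hT1X (pCoreOf_le X))) ▸ le_sup_right
    set A := omegaZ p O
    have hXA : X ≤ normalizer (A : Set H) :=
      (le_normalizer_pCoreOf X).trans (normalizer_le_normalizer_omegaZ O)
    have hTX : TL ≤ normalizer (X : Set H) :=
      (le_inf hTLM ((le_normalizer.trans (normalizer_le_normalizer_omegaZ TL)).trans
        (Modules.normalizes_centralizer le_rfl))).trans inf_normalizer_le_normalizer_inf
    have hTA : TL ≤ normalizer (A : Set H) :=
      (hTX.trans (normalizer_le_normalizer_pCoreOf X)).trans (normalizer_le_normalizer_omegaZ O)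
    have hAe : Cfsg.IsElementaryAbelian p A := Modules.elemAb_omegaOne (comm_zedGroup O)
    have hZ1A : Z1 ≤ A := fun z hz => by
      obtain ⟨h1, h2, h3⟩ := omegaZ_spec hz
      have hzX : z ∈ X := hT1X h1
      have hzO : z ∈ O := mem_pCoreOf_of_local hH hZLp hZLne
        (inf_le_right.trans (centralizer_le_normalizer _)) hXsub hzX (centralizer_le hOT h2)
      exact mem_omegaZ hzO (centralizer_le hOT h2) h3
    have hAT : A ⊓ centralizer (T1 : Set H) ≤ Z1 := fun a ha => by
      obtain ⟨h1, -, h3⟩ := omegaZ_spec ha.1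
      exact mem_omegaZ (hOT h1) ha.2 h3
    obtain ⟨N, hNmem, hNmul, -, hNfix, hNeq⟩ := exists_norm (T := T1) hAe.1 hXA hT1X
    set i := T1.relIndex X
    have hone : N 1 = 1 := by
      rw [hNfix 1 (one_mem A) fun k _ => Commute.one_right k, one_pow]
    let K0 : Subgroup H :=
      { carrier := {v | v ∈ A ⊓ centralizer (T1 : Set H) ∧ N v = 1}
        one_mem' := ⟨one_mem _, hone⟩
        mul_mem' := fun {a b} ha hb => ⟨mul_mem ha.1 hb.1,
          by rw [hNmul a ha.1 b hb.1, ha.2, hb.2, one_mul]⟩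
        inv_mem' := fun {a} ha => ⟨inv_mem ha.1, by
          have := hNmul a ha.1 a⁻¹ (inv_mem ha.1)
          rw [mul_inv_cancel, hone, ha.2, one_mul] at this
          exact this.symm⟩ }
    have hfixed : ∀ v : H, v ∈ Z1 → v ∈ centralizer (TL : Set H) → ∀ k ∈ X, Commute v k := by
      intro v hv hvT k hk
      have hvL : v ∈ ZL := mem_omegaZ (hT1L (omegaZ_spec hv).1) hvT (omegaZ_spec hv).2.2
      exact mem_centralizer_iff.1 hk.2 v hvL
    have hcop : ∀ v ∈ Z1, v ^ i = 1 → v = 1 := by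
      intro v hv h
      have h1 : orderOf v ∣ p := orderOf_dvd_of_pow_eq_one (omegaZ_spec hv).2.2
      exact orderOf_eq_one_iff.1 (Nat.eq_one_of_dvd_coprimes
        (hp.out.coprime_iff_not_dvd.2 hsylX.idx) h1 (orderOf_dvd_of_pow_eq_one h))
    have hK0 : K0 = ⊥ := by
      by_contra hne
      have hK0N : TL ≤ normalizer (K0 : Set H) := by
        refine le_normalizer_of_conj_mem fun t ht v hv => ?_
        refine ⟨?_, ?_⟩
        · exact ((le_inf hTA (hTLT1.trans (Modules.normalizes_centralizer le_rfl))).trans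
            inf_normalizer_le_normalizer_inf ht v).1 hv.1
        · rw [hNeq t (hTA ht) (hTX ht) (hTLT1 ht) v hv.1, hv.2, mul_one, mul_inv_cancel]
      have hK0p : IsPGroup p K0 := hZ1p.to_le fun v hv => hAT hv.1
      obtain ⟨v, hv, hv1⟩ := (bot_or_exists_ne_one _).resolve_left
        (Modules.inf_centralizer_ne_bot_of_isPGroup hK0p hne hK0N (fun t ht => by
          obtain ⟨k, hk⟩ := hTLp ⟨t, ht⟩
          exact ⟨k, by rw [show t ^ p ^ k = 1 from congrArg Subtype.val hk]; exact one_mem _⟩))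
      have hc := hfixed v (hAT hv.1.1) hv.2
      refine hv1 (hcop v (hAT hv.1.1) ?_)
      rw [← hNfix v hv.1.1.1 (fun k hk => (hc k hk).symm), hv.1.2]
    intro k hk
    refine ⟨hk.1, mem_centralizer_iff.2 fun z hz => ?_⟩
    have hzA : z ∈ A ⊓ centralizer (T1 : Set H) := ⟨hZ1A hz, (omegaZ_spec hz).2.1⟩
    have hpow : ∀ n : ℕ, N (z ^ n) = (N z) ^ n := by
      intro n
      induction n with
      | zero => rw [pow_zero, pow_zero, hone]
      | succ n ihn => rw [pow_succ, hNmul _ (pow_mem hzA n) z hzA, ihn, pow_succ]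
    have hNz := hNmem z hzA
    have hNzT : N z ∈ A ⊓ centralizer (T1 : Set H) :=
      ⟨hNz.1, centralizer_le (SetLike.coe_subset_coe.2 hT1X) hNz.2⟩
    have hdiff : N z * (z ^ i)⁻¹ ∈ K0 := by
      refine ⟨mul_mem hNzT (inv_mem (pow_mem hzA i)), ?_⟩
      have h1 : N (z ^ i)⁻¹ = (N (z ^ i))⁻¹ := by
        have := hNmul _ (pow_mem hzA i) _ (inv_mem (pow_mem hzA i))
        rw [mul_inv_cancel, hone] at this
        exact (inv_eq_of_mul_eq_one_right this.symm).symm
      rw [hNmul _ hNzT _ (inv_mem (pow_mem hzA i)), h1, hpow,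
        hNfix (N z) hNz.1 (fun c hc => mem_centralizer_iff.1 hNz.2 c hc), mul_inv_cancel]
    rw [hK0, mem_bot, mul_inv_eq_one] at hdiff
    have hzi : Commute k (z ^ i) := hdiff ▸ mem_centralizer_iff.1 hNz.2 k hk
    have hcz : (orderOf z).Coprime i := Nat.Coprime.coprime_dvd_left
      (orderOf_dvd_of_pow_eq_one (omegaZ_spec hz).2.2) (hp.out.coprime_iff_not_dvd.2 hsylX.idx)
    obtain ⟨m, hm⟩ := exists_pow_eq_self_of_coprime hcz.symm
    rw [← hm]
    exact ((hzi.pow_right m).eq).symm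
  · set X1 := M ⊓ centralizer (Z1 : Set H) with hX1
    set G' := L ⊓ normalizer (Z1 : Set H) with hG'
    have hTG : TL ≤ G' := le_inf inf_le_right (hTLT1.trans (normalizer_le_normalizer_omegaZ T1))
    have hG'sub : (G'.subgroupOf (normalizer (Z1 : Set H))).IsSubnormal := by
      rw [hG', inf_subgroupOf_right]
      exact hL.subgroupOf
    have hsylG : IsSyl p TL G' := hsylL.of_le hTG inf_le_left
    set O := Cfsg.pCoreOf p G'
    have hOT : O ≤ TL := (hsylG.eq_of_le (U := TL ⊔ O)
      (hTLp.to_sup_of_normal_right' (pCoreOf_isPGroup G') (hTG.trans (le_normalizer_pCoreOf G')))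
      le_sup_left (sup_le hTG (pCoreOf_le G'))) ▸ le_sup_right
    set A := omegaZ p O
    have hGA : G' ≤ normalizer (A : Set H) :=
      (le_normalizer_pCoreOf G').trans (normalizer_le_normalizer_omegaZ O)
    have hAe : Cfsg.IsElementaryAbelian p A := Modules.elemAb_omegaOne (comm_zedGroup O)
    have hX1G : X1 ≤ G' := le_inf (inf_le_left.trans hML)
      (inf_le_right.trans (centralizer_le_normalizer _))
    have hGX1 : G' ≤ normalizer (X1 : Set H) :=
      (le_inf (inf_le_left.trans hn) (inf_le_right.trans (Modules.normalizes_centralizer le_rfl))).trans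
        inf_normalizer_le_normalizer_inf
    have hT1X : T1 ≤ X1 := le_inf inf_le_right fun t ht =>
      mem_centralizer_iff.2 fun z hz => (mem_centralizer_iff.1 (omegaZ_spec hz).2.1 t ht).symm
    intro k hk
    refine ⟨hk.1, mem_centralizer_iff.2 fun z hz => ?_⟩
    obtain ⟨h1, h2, h3⟩ := omegaZ_spec hz
    have hzG : z ∈ G' := hTG h1
    have hzO : z ∈ O := mem_pCoreOf_of_local hH hZ1p hZ1ne inf_le_right hG'sub hzG
      (centralizer_le hOT h2)
    have hzA : z ∈ A := mem_omegaZ hzO (centralizer_le hOT h2) h3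
    have hzT1 : ∀ t ∈ T1, Commute t z := fun t ht => mem_centralizer_iff.1 h2 t (hT1L ht)
    have hsup := mem_sup_of_norm (D := A ⊓ X1) hAe (hX1G.trans hGA) hT1X
      (hsyl1.of_le hT1X inf_le_left).idx hzA hzT1 fun c hc => by
        refine ⟨A.mul_mem (((mem_normalizer_iff.1 (hGA (hX1G hc))) z).1 hzA) (A.inv_mem hzA), ?_⟩
        rw [show c * z * c⁻¹ * z⁻¹ = c * (z * c⁻¹ * z⁻¹) by group]
        exact X1.mul_mem hc ((mem_normalizer_iff.1 (hGX1 hzG) _).1 (X1.inv_mem hc))
    have hVc : A ⊓ centralizer (X1 : Set H) ≤ normalizer ((A ⊓ X1 : Subgroup H) : Set H) := fun v hv => by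
      refine mem_normalizer_iff.2 fun w => ?_
      constructor
      · intro hw
        rw [show v * w * v⁻¹ = w by
          rw [← mem_centralizer_iff.1 hv.2 w hw.2, mul_inv_cancel_right]]
        exact hw
      · intro hw
        have : w = v * w * v⁻¹ := by
          have h := mem_centralizer_iff.1 hv.2 _ hw.2
          have h' : v * w * v⁻¹ * v = v * (v * w * v⁻¹) := h
          simp only [inv_mul_cancel_right] at h'
          exact mul_left_cancel h'
        rwa [this]
    rw [← SetLike.mem_coe, coe_mul_of_right_le_normalizer_left _ _ hVc] at hsup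
    obtain ⟨d, hd, c, hc, rfl⟩ := hsup
    have hck : Commute k c := mem_centralizer_iff.1 hc.2 k hk
    have hdT : d ∈ centralizer (T1 : Set H) := mem_centralizer_iff.2 fun t ht => by
      have h4 : Commute t c := mem_centralizer_iff.1 hc.2 t (hT1X ht)
      have := ((hzT1 t ht).mul_right h4.inv_right)
      rwa [mul_inv_cancel_right] at this
    have hdp : d ^ p = 1 := hAe.2 d hd.1
    have hdT1 : d ∈ T1 := by
      have hU : IsPGroup p ↥(T1 ⊔ zpowers d) := hT1p.to_sup_of_normal_left'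
        (fun y => ⟨1, by
          obtain ⟨n, hn⟩ := y.2
          apply Subtype.ext
          rw [pow_one, SubmonoidClass.coe_pow, ← hn, OneMemClass.coe_one]
          simp only [← zpow_natCast, ← zpow_mul]
          rw [mul_comm, zpow_mul, zpow_natCast, hdp, one_zpow]⟩)
        (zpowers_le.2 (centralizer_le_normalizer _ hdT))
      exact (hsyl1.eq_of_le hU le_sup_left (sup_le inf_le_right (zpowers_le.2 hd.2.1))).le
        (mem_sup_right (mem_zpowers d))
    have hkd : Commute k d := (mem_centralizer_iff.1 hk.2 d (mem_omegaZ hdT1 hdT hdp)).symm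
    exact ((hkd.mul_right hck).eq).symm

/-- Elements centralising `Ω₁Z` of the Sylow subgroup of a subnormal subgroup. -/
theorem centralizer_omegaZ_subnormal (hH : Cfsg.IsOfLocalCharacteristic p H) (T : Sylow p H)
    {L : Subgroup H} (hL : L.IsSubnormal) {M : Subgroup H} (hM : M.IsSubnormal) (hML : M ≤ L)
    (hT1 : (T : Subgroup H) ⊓ M ≠ ⊥) :
    M ⊓ centralizer (omegaZ p ((T : Subgroup H) ⊓ L) : Set H) =
      M ⊓ centralizer (omegaZ p ((T : Subgroup H) ⊓ M) : Set H) := by
  suffices key : ∀ Y : Subgroup H, Y.IsSubnormal → M ≤ Y →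
      M ⊓ centralizer (omegaZ p ((T : Subgroup H) ⊓ L) : Set H) =
        M ⊓ centralizer (omegaZ p ((T : Subgroup H) ⊓ (Y ⊓ L)) : Set H) by
    have := key M hM le_rfl
    rwa [inf_eq_left.2 hML] at this
  intro Y hY
  induction hY with
  | top => intro _; rw [top_inf_eq]
  | step Y Z hle hZ hn ih =>
    intro hMY
    have hYs : Y.IsSubnormal := IsSubnormal.step Y Z hle hZ hn
    have hinf : ∀ {W : Subgroup H}, W.IsSubnormal → (W ⊓ L).IsSubnormal := fun {W} hW =>
      (hW.subgroupOf (K := L)).trans' hL |> fun h => by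
        rwa [subgroupOf, map_comap_eq, range_subtype, inf_comm] at h
    rw [ih (hMY.trans hle)]
    have hstep := centralizer_omegaZ_step hH T (hinf hYs) (hinf hZ) (inf_le_inf_right _ hle)
      ((le_inf (inf_le_left.trans ((normal_subgroupOf_iff_le_normalizer hle).1 hn))
        (inf_le_right.trans le_normalizer)).trans inf_normalizer_le_normalizer_inf)
      (fun h => hT1 (le_bot_iff.1 ((inf_le_inf_left _ (le_inf hMY hML)).trans h.le)))
    have hM' : M = M ⊓ (Y ⊓ L) := (inf_eq_left.2 (le_inf hMY hML)).symm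
    rw [hM', inf_assoc M (Y ⊓ L), inf_assoc M (Y ⊓ L), hstep]

/-- A subnormal subgroup of index prime to `p` contains every `p`-element. -/
theorem mem_of_subnormal_of_not_dvd {G : Type*} [Group G] [Finite G] {X : Subgroup G}
    (hX : X.IsSubnormal) : ¬ p ∣ X.index → ∀ x : G, (∃ k, orderOf x = p ^ k) → x ∈ X := by
  induction hX with
  | top => exact fun _ x _ => mem_top x
  | step Y Z hle hZ hn ih =>
    intro hi x hx
    have hxZ : x ∈ Z := ih (fun h => hi (h.trans (index_dvd_of_le hle))) x hx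
    obtain ⟨k, hk⟩ := hx
    have hpow : x ^ (Y.relIndex Z) ∈ Y := by
      haveI := hn
      exact (Y.subgroupOf Z).pow_index_mem ⟨x, hxZ⟩
    have hcop : (orderOf x).Coprime (Y.relIndex Z) := by
      rw [hk]
      exact Nat.Coprime.pow_left k (hp.out.coprime_iff_not_dvd.2 fun h =>
        hi (h.trans (relIndex_dvd_index_of_le hle)))
    obtain ⟨m, hm⟩ := exists_pow_eq_self_of_coprime hcop.symm
    rw [← hm]
    exact pow_mem hpow m

theorem pointStabilizer_sup (hH : Cfsg.IsOfLocalCharacteristic p H) (T : Sylow p H)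
    (L₁ L₂ : Subgroup H) (h₁ : L₁.IsSubnormal) (h₂ : L₂.IsSubnormal) :
    Cfsg.pointStabilizer p (L₁ ⊔ L₂) ((T : Subgroup H) ⊓ (L₁ ⊔ L₂)) =
      Cfsg.pointStabilizer p L₁ ((T : Subgroup H) ⊓ L₁) ⊔
        Cfsg.pointStabilizer p L₂ ((T : Subgroup H) ⊓ L₂) := by
  set L := L₁ ⊔ L₂ with hL
  have hLs : L.IsSubnormal := SubnormalLib.isSubnormal_sup h₁ h₂
  set Z := omegaZ p ((T : Subgroup H) ⊓ L)
  set C := L ⊓ centralizer (Z : Set H) with hC
  have hPi : ∀ {M : Subgroup H}, M.IsSubnormal → M ≤ L →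
      Cfsg.pointStabilizer p M ((T : Subgroup H) ⊓ M) =
        closure {x : H | x ∈ M ⊓ C ∧ ∃ k, orderOf x = p ^ k} := by
    intro M hM hML
    show closure {x : H | x ∈ M ⊓ centralizer (omegaZ p ((T : Subgroup H) ⊓ M) : Set H) ∧ _} = _
    by_cases hT1 : (T : Subgroup H) ⊓ M = ⊥
    · have hnone : ∀ x ∈ M, (∃ k, orderOf x = p ^ k) → x = 1 := by
        intro x hx ⟨k, hk⟩
        have hU : IsPGroup p ↥(zpowers x) :=
          IsPGroup.of_card (n := k) (by rw [Nat.card_zpowers, hk])
        obtain ⟨m, -, hm⟩ :=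
          (isSyl_inf_subnormal T hM).exists_conj_le hU (zpowers_le.2 hx)
        rw [hT1] at hm
        have := hm ⟨x, mem_zpowers x, rfl⟩
        simpa using this
      refine le_antisymm ?_ ?_ <;> refine (closure_le _).2 ?_ <;> rintro x ⟨hx, hxp⟩ <;>
        rw [hnone x hx.1 hxp] <;> exact one_mem _
    · rw [← centralizer_omegaZ_subnormal hH T hLs hM hML hT1, hC, ← inf_assoc,
        inf_eq_left.2 hML]
  rw [hPi h₁ le_sup_left, hPi h₂ le_sup_right, hPi hLs le_rfl, inf_eq_right.2 (inf_le_left : C ≤ L)]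
  set R₁ := closure {x : H | x ∈ L₁ ⊓ C ∧ ∃ k, orderOf x = p ^ k}
  set R₂ := closure {x : H | x ∈ L₂ ⊓ C ∧ ∃ k, orderOf x = p ^ k}
  refine le_antisymm ?_ (sup_le (closure_mono fun x hx => ⟨hx.1.2, hx.2⟩)
    (closure_mono fun x hx => ⟨hx.1.2, hx.2⟩))
  have hRC : ∀ M : Subgroup H, closure {x : H | x ∈ M ⊓ C ∧ ∃ k, orderOf x = p ^ k} ≤ C :=
    fun M => (closure_le _).2 fun x hx => hx.1.2
  have hsub : ∀ {M : Subgroup H}, M.IsSubnormal →
      ((closure {x : H | x ∈ M ⊓ C ∧ ∃ k, orderOf x = p ^ k}).subgroupOf C).IsSubnormal := by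
    intro M hM
    set R := closure {x : H | x ∈ M ⊓ C ∧ ∃ k, orderOf x = p ^ k}
    have hRM : R ≤ M ⊓ C := (closure_le _).2 fun x hx => hx.1
    refine IsSubnormal.step _ ((M ⊓ C).subgroupOf C) (fun y hy => hRM hy) ?_
      (normal_subgroupOf_of_le_normalizer ?_)
    · rw [inf_subgroupOf_right]
      exact hM.subgroupOf
    · refine le_normalizer_of_conj_mem fun g hg x hx => ?_
      rw [mem_subgroupOf] at hx hg ⊢
      have hgN : (g : H) ∈ normalizer (R : Set H) := by
        refine (le_normalizer_of_conj_mem (A := M ⊓ C) (B := R) fun a ha y hy => ?_) hg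
        have : (MulAut.conj a).toMonoidHom y ∈ R := by
          refine (show R.map (MulAut.conj a).toMonoidHom ≤ R from ?_) ⟨y, hy, rfl⟩
          rw [MonoidHom.map_closure, closure_le]
          rintro _ ⟨w, ⟨hw, k, hk⟩, rfl⟩
          refine subset_closure ⟨mul_mem (mul_mem ha hw) (inv_mem ha), k, ?_⟩
          rw [orderOf_injective _ (MulAut.conj a).injective, hk]
        exact this
      exact (mem_normalizer_iff.1 hgN _).1 hx
  have hTC : (T : Subgroup H) ⊓ L ≤ C := le_inf inf_le_right fun t ht =>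
    mem_centralizer_iff.2 fun z hz => (mem_centralizer_iff.1 (omegaZ_spec hz).2.1 t ht).symm
  have hTR : (T : Subgroup H) ⊓ L ≤ R₁ ⊔ R₂ := by
    have haux : ∀ M : Subgroup H, M ≤ L →
        (T : Subgroup H) ⊓ M ≤ closure {x : H | x ∈ M ⊓ C ∧ ∃ k, orderOf x = p ^ k} := by
      intro M hML t ht
      refine subset_closure ⟨⟨ht.2, hTC ⟨ht.1, hML ht.2⟩⟩, ?_⟩
      obtain ⟨k, hk⟩ := IsPGroup.iff_orderOf.1 T.2 ⟨t, ht.1⟩
      exact ⟨k, by rw [← hk]; exact (orderOf_coe (⟨t, ht.1⟩ : (T : Subgroup H))).symm ▸ rfl⟩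
    rw [sylow_inf_sup T h₁ h₂]
    exact sup_le ((haux L₁ le_sup_left).trans le_sup_left)
      ((haux L₂ le_sup_right).trans le_sup_right)
  have hRs : ((R₁ ⊔ R₂).subgroupOf C).IsSubnormal := by
    rw [subgroupOf_sup (hRC L₁) (hRC L₂)]
    exact SubnormalLib.isSubnormal_sup (hsub h₁) (hsub h₂)
  have hidx : ¬ p ∣ ((R₁ ⊔ R₂).subgroupOf C).index := fun h =>
    (isSyl_inf_subnormal T hLs |>.of_le hTC inf_le_left).idx
      (h.trans (relIndex_dvd_of_le_left C hTR))
  refine (closure_le _).2 fun x ⟨hx, k, hk⟩ => ?_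
  exact mem_of_subnormal_of_not_dvd hRs hidx ⟨x, hx⟩ ⟨k, by
    rw [← hk]; exact (orderOf_coe (⟨x, hx⟩ : C)).symm⟩

end Cfsg.Agent.LocalP
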