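import Cfsg.Agent.LocalP.Norm
import Cfsg.Agent.CF.Basic
import Cfsg.Agent.Subnormal.Join
import Cfsg.Agent.Modules.Fixed

/-!
A Sylow subgroup of the join of two subnormal subgroups is generated by its intersections with them.
-/

set_option autoImplicit false

namespace Cfsg.Agent.LocalP

open Subgroup CF

universe u

variable {G : Type u} [Group G] [Finite G] {p : ℕ}

theorem isSyl_inf_subnormal [Fact p.Prime] (S : Sylow p G) {L : Subgroup G} (hL : L.IsSubnormal) :
    IsSyl p ((S : Subgroup G) ⊓ L) L :=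
  ⟨inf_le_right, S.2.to_inf_left, by
    rw [Subgroup.inf_relIndex_right]; exact not_dvd_relIndex_sylow_subnormal S hL⟩

theorem map_sylow_inf [Fact p.Prime] {H : Type*} [Group H] [Finite H] (f : G →* H)
    (S : Sylow p G) {L : Subgroup G} (hL : L.IsSubnormal) :
    ((S : Subgroup G) ⊓ L).map f = (S : Subgroup G).map f ⊓ L.map f := by
  have h := isSyl_inf_subnormal S hL
  have hsyl : IsSyl p (((S : Subgroup G) ⊓ L).map f) (L.map f) := by
    refine ⟨map_mono h.le, h.isP.map f, fun hd => h.idx (hd.trans ?_)⟩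
    have e : (((S : Subgroup G) ⊓ L).map f).subgroupOf (L.map f) =
        (((S : Subgroup G) ⊓ L).subgroupOf L).map (f.subgroupMap L) := by
      ext ⟨y, hy⟩
      constructor
      · rintro ⟨x, hx, hxy⟩
        exact ⟨⟨x, hx.2⟩, hx, Subtype.ext hxy⟩
      · rintro ⟨x, hx, hxy⟩
        exact ⟨x, hx, congrArg Subtype.val hxy⟩
    show (Subgroup.subgroupOf _ _).index ∣ _
    rw [e]
    exact Subgroup.index_map_dvd _ (f.subgroupMap_surjective L)
  exact (hsyl.eq_of_le (S.2.map f).to_inf_left (le_inf (map_mono inf_le_left) hsyl.le)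
    inf_le_right).symm

/-- The Dedekind step. -/
theorem le_sup_inf_of_le_sup {R S N : Subgroup G} [N.Normal] (hR : R ≤ S) (h : S ≤ R ⊔ N) :
    S = R ⊔ (S ⊓ N) := by
  refine le_antisymm (fun s hs => ?_) (sup_le hR inf_le_left)
  have hmem := h hs
  rw [← SetLike.mem_coe, mul_normal] at hmem
  obtain ⟨r, hr, n, hn, rfl⟩ := hmem
  exact mul_mem_sup hr ⟨by simpa using mul_mem (inv_mem (hR hr)) hs, hn⟩

theorem sup_normal_split [Fact p.Prime] (S : Sylow p G) {A B : Subgroup G} [A.Normal] [B.Normal]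
    (h : A ⊔ B = ⊤) :
    ((S : Subgroup G) ⊓ A) ⊔ ((S : Subgroup G) ⊓ B) = (S : Subgroup G) := by
  set π := QuotientGroup.mk' A
  have h1 : (S : Subgroup G).map π = ((S : Subgroup G) ⊓ B).map π := by
    rw [map_sylow_inf π S (Normal.isSubnormal inferInstance), left_eq_inf]
    intro x _
    obtain ⟨y, rfl⟩ := QuotientGroup.mk'_surjective A x
    have hy : y ∈ B ⊔ A := by rw [sup_comm, h]; exact mem_top y
    rw [← SetLike.mem_coe, mul_normal] at hy
    obtain ⟨b, hb, a, ha, rfl⟩ := hy
    refine ⟨b, hb, ?_⟩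
    rw [map_mul, show π a = 1 from (QuotientGroup.eq_one_iff a).2 ha, mul_one]
  have h2 : (S : Subgroup G) ≤ ((S : Subgroup G) ⊓ B) ⊔ A := fun s hs => by
    have : π s ∈ ((S : Subgroup G) ⊓ B).map π := h1 ▸ mem_map_of_mem π hs
    obtain ⟨b, hb, hbs⟩ := this
    have hA : b⁻¹ * s ∈ A := QuotientGroup.eq.1 hbs
    simpa using mul_mem_sup hb hA
  rw [sup_comm]
  exact (le_sup_inf_of_le_sup inf_le_left h2).symm

theorem sylow_join_aux : ∀ (n : ℕ) (X : Type u) [Group X] [Finite X], Nat.card X ≤ n →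
    ∀ (L₁ L₂ : Subgroup X), L₁.IsSubnormal → L₂.IsSubnormal → L₁ ⊔ L₂ = ⊤ →
      ∀ (q : ℕ) [Fact q.Prime] (S : Sylow q X),
        ((S : Subgroup X) ⊓ L₁) ⊔ ((S : Subgroup X) ⊓ L₂) = (S : Subgroup X) := by
  intro n
  induction n with
  | zero => intro X _ _ h; exact absurd h (Nat.not_le_of_gt Nat.card_pos)
  | succ n ih =>
  intro X _ _ hn L₁ L₂ h₁ h₂ htop
  rcases subsingleton_or_nontrivial X with hs | hnt
  · intro q _ S; exact Subsingleton.elim _ _
  obtain ⟨N, hNmin, -⟩ := SubnormalLib.exists_minNormal_le (G := X) (N := ⊤) inferInstance top_ne_bot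
  haveI := hNmin.1
  set π := QuotientGroup.mk' N with hπ
  have hπs : Function.Surjective π := QuotientGroup.mk'_surjective N
  have hcard : Nat.card (X ⧸ N) ≤ n := by
    have h1 := N.card_mul_index
    rw [Subgroup.index_eq_card] at h1
    have h2 : 1 < Nat.card N := Finite.one_lt_card_iff_nontrivial.mpr
      ((Subgroup.nontrivial_iff_ne_bot N).mpr hNmin.2.1)
    have h3 : 0 < Nat.card (X ⧸ N) := Nat.card_pos
    nlinarith
  let R : ∀ (q : ℕ), Subgroup X → Subgroup X := fun _ S => (S ⊓ L₁) ⊔ (S ⊓ L₂)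
  have hquo : ∀ (q : ℕ) [Fact q.Prime] (S : Sylow q X),
      (S : Subgroup X) = R q S ⊔ ((S : Subgroup X) ⊓ N) := by
    intro q _ S
    refine le_sup_inf_of_le_sup (sup_le inf_le_left inf_le_left) fun s hs => ?_
    have h := ih (X ⧸ N) hcard _ _ (h₁.map hπs) (h₂.map hπs)
      (by rw [← Subgroup.map_sup, htop, map_top_of_surjective π hπs]) q (S.mapSurjective hπs)
    rw [Sylow.coe_mapSurjective, ← map_sylow_inf π S h₁, ← map_sylow_inf π S h₂, ← Subgroup.map_sup] at h
    obtain ⟨r, hr, hrs⟩ : π s ∈ (R q S).map π := h.ge (mem_map_of_mem π hs)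
    simpa using mul_mem_sup hr (QuotientGroup.eq.1 hrs)
  -- `D`, generated by the intersections with `N`, is normal
  have hN1 := SubnormalLib.minNormal_le_normalizer hNmin h₁
  have hN2 := SubnormalLib.minNormal_le_normalizer hNmin h₂
  set D := (N ⊓ L₁) ⊔ (N ⊓ L₂) with hD
  have hcomm : ∀ {L : Subgroup X}, N ≤ normalizer (L : Set X) → ∀ d ∈ N, ∀ l ∈ L,
      l * d * l⁻¹ * d⁻¹ ∈ N ⊓ L := by
    intro L hL d hd l hl
    refine ⟨N.mul_mem ((inferInstance : N.Normal).conj_mem d hd l) (N.inv_mem hd), ?_⟩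
    rw [show l * d * l⁻¹ * d⁻¹ = l * (d * l⁻¹ * d⁻¹) by group]
    exact L.mul_mem hl ((mem_normalizer_iff.1 (hL hd) _).1 (L.inv_mem hl))
  have hDn : D.Normal := by
    refine ⟨fun d hd x => ?_⟩
    have hdN : d ∈ N := (sup_le inf_le_left inf_le_left : D ≤ N) hd
    have hx : x ∈ L₁ ⊔ L₂ := htop ▸ mem_top x
    have key : x ∈ normalizer (D : Set X) := by
      refine (sup_le ?_ ?_ : L₁ ⊔ L₂ ≤ normalizer (D : Set X)) hx
      · refine le_normalizer_of_conj_mem fun l hl e he => ?_
        have heN : e ∈ N := (sup_le inf_le_left inf_le_left : D ≤ N) he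
        have : l * e * l⁻¹ * e⁻¹ ∈ D := mem_sup_left (hcomm hN1 e heN l hl)
        simpa using mul_mem this he
      · refine le_normalizer_of_conj_mem fun l hl e he => ?_
        have heN : e ∈ N := (sup_le inf_le_left inf_le_left : D ≤ N) he
        have : l * e * l⁻¹ * e⁻¹ ∈ D := mem_sup_right (hcomm hN2 e heN l hl)
        simpa using mul_mem this he
    exact (mem_normalizer_iff.1 key d).1 hd
  rcases hNmin.2.2 D hDn (sup_le inf_le_left inf_le_left) with hbot | hDN
  swap
  · intro q _ S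
    refine le_antisymm (sup_le inf_le_left inf_le_left) ?_
    have hS := isSyl_inf_subnormal S (Normal.isSubnormal (show N.Normal from inferInstance))
    let SN : Sylow q N := (hS.isP.comap_subtype (K := N)).toSylow hS.idx
    have hSN : (SN : Subgroup N).map N.subtype = (S : Subgroup X) ⊓ N :=
      map_subgroupOf_eq_of_le inf_le_right
    haveI : ((N ⊓ L₁).subgroupOf N).Normal := normal_subgroupOf_of_le_normalizer
      ((le_inf le_normalizer hN1).trans inf_normalizer_le_normalizer_inf)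
    haveI : ((N ⊓ L₂).subgroupOf N).Normal := normal_subgroupOf_of_le_normalizer
      ((le_inf le_normalizer hN2).trans inf_normalizer_le_normalizer_inf)
    have h := sup_normal_split SN (A := (N ⊓ L₁).subgroupOf N) (B := (N ⊓ L₂).subgroupOf N) (by
      rw [← subgroupOf_sup inf_le_left inf_le_left]
      exact subgroupOf_eq_top.2 hDN.ge)
    have h' := congrArg (Subgroup.map N.subtype) h
    rw [Subgroup.map_sup, Subgroup.map_inf _ _ _ N.subtype_injective, Subgroup.map_inf _ _ _ N.subtype_injective, hSN,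
      map_subgroupOf_eq_of_le inf_le_left, map_subgroupOf_eq_of_le inf_le_left] at h'
    refine (hquo q S).le.trans (sup_le le_rfl (h'.ge.trans (sup_le ?_ ?_)))
    · exact le_sup_of_le_left (inf_le_inf inf_le_left inf_le_right)
    · exact le_sup_of_le_right (inf_le_inf inf_le_left inf_le_right)
  -- `N` is central of prime order
  have hz : ∀ {L : Subgroup X}, N ≤ normalizer (L : Set X) → N ⊓ L ≤ D → ∀ d ∈ N, ∀ l ∈ L,
      l * d = d * l := by
    intro L hL hle d hd l hl
    have := hle (hcomm hL d hd l hl)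
    rw [hbot, mem_bot, mul_inv_eq_one, mul_inv_eq_iff_eq_mul] at this
    exact this
  have hNc : N ≤ center X := by
    intro d hd
    rw [Subgroup.mem_center_iff]
    intro x
    have hle : L₁ ⊔ L₂ ≤ centralizer ({d} : Set X) := sup_le
      (fun l hl => mem_centralizer_singleton_iff.2 (hz hN1 le_sup_left d hd l hl))
      (fun l hl => mem_centralizer_singleton_iff.2 (hz hN2 le_sup_right d hd l hl))
    exact mem_centralizer_singleton_iff.1 (hle (htop ▸ mem_top x))
  obtain ⟨r, hr, hrd⟩ := Nat.exists_prime_and_dvd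
    (fun h => hNmin.2.1 (card_eq_one.1 h) : Nat.card N ≠ 1)
  haveI := Fact.mk hr
  obtain ⟨z, hz⟩ := exists_prime_orderOf_dvd_card' r hrd
  have hNeq : zpowers (z : X) = N := by
    have hn : (zpowers (z : X)).Normal := ⟨fun a ha g => by
      have hac : a ∈ center X := (zpowers_le.2 (hNc z.2)) ha
      rwa [Subgroup.mem_center_iff.1 hac g, mul_inv_cancel_right]⟩
    refine (hNmin.2.2 _ hn (zpowers_le.2 z.2)).resolve_left fun h => ?_
    rw [zpowers_eq_bot, OneMemClass.coe_eq_one] at h
    rw [h, orderOf_one] at hz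
    exact hr.ne_one hz.symm
  have hNr : Nat.card N = r := by rw [← hNeq, Nat.card_zpowers, orderOf_coe, hz]
  intro q _ S
  by_cases hqr : q = r
  swap
  · have hSN : (S : Subgroup X) ⊓ N = ⊥ :=
      inf_eq_bot_of_coprime (by
        obtain ⟨k, hk⟩ := S.2.exists_card_eq
        rw [hk, hNr]
        exact Nat.Coprime.pow_left k ((Nat.coprime_primes Fact.out hr).2 hqr))
    refine le_antisymm (sup_le inf_le_left inf_le_left) ?_
    have := hquo q S
    rw [hSN, sup_bot_eq] at this
    exact this.le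
  subst hqr
  have hNS : N ≤ (S : Subgroup X) :=
    (Cores.le_pCore inferInstance (IsPGroup.of_card (n := 1) (by rw [hNr, pow_one]))).trans
      (Cores.pCore_le_sylow S)
  have hSeq : (S : Subgroup X) = R q S ⊔ N := by
    have := hquo q S
    rwa [inf_eq_right.2 hNS] at this
  by_cases hNR : N ≤ R q S
  · exact (hSeq.trans (sup_eq_left.2 hNR)).symm
  exfalso
  have hRN : R q S ⊓ N = ⊥ := by
    by_contra h
    apply hNR
    have h1 : Nat.card ↥(R q S ⊓ N) ∣ q := (card_dvd_of_le inf_le_right).trans (dvd_of_eq hNr)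
    rcases (Nat.dvd_prime hr).1 h1 with h2 | h2
    · exact absurd (card_eq_one.1 h2) h
    · exact (eq_of_le_of_card_ge inf_le_right (by rw [h2, hNr])).ge.trans inf_le_left
  -- the other primes
  have hother : ∀ (s : ℕ) [Fact s.Prime] (Q : Sylow s X), s ≠ q →
      (Q : Subgroup X) = R s Q := by
    intro s _ Q hs
    have hSN : (Q : Subgroup X) ⊓ N = ⊥ :=
      inf_eq_bot_of_coprime (by
        obtain ⟨k, hk⟩ := Q.2.exists_card_eq
        rw [hk, hNr]
        exact Nat.Coprime.pow_left k ((Nat.coprime_primes Fact.out hr).2 hs))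
    have := hquo s Q
    rwa [hSN, sup_bot_eq] at this
  set J := resOf q L₁ ⊔ resOf q L₂ with hJ
  have hres : ∀ {L : Subgroup X}, L.IsSubnormal → (resOf q L).IsSubnormal := fun {L} hL =>
    IsSubnormal.step _ L (resOf_le L) hL
      (normal_subgroupOf_of_le_normalizer (le_normalizer_resOf L))
  have hJsub : J.IsSubnormal := SubnormalLib.isSubnormal_sup (hres h₁) (hres h₂)
  have hJQ : ∀ (s : ℕ) [Fact s.Prime] (Q : Sylow s X), s ≠ q → (Q : Subgroup X) ≤ J := by
    intro s _ Q hs
    rw [hother s Q hs]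
    have haux : ∀ L : Subgroup X, (Q : Subgroup X) ⊓ L ≤ resOf q L := by
      intro L x hx
      refine mem_resOf hx.2 ?_
      obtain ⟨k, hk⟩ := IsPGroup.iff_orderOf.1 Q.2 ⟨x, hx.1⟩
      rw [← orderOf_coe] at hk
      change orderOf x = _ at hk
      rw [hk]
      exact Nat.Coprime.pow_left k ((Nat.coprime_primes Fact.out hr).2 hs)
    exact sup_le ((haux L₁).trans le_sup_left) ((haux L₂).trans le_sup_right)
  have hJidx : ∃ e, J.index = q ^ e := by
    refine ⟨_, Nat.eq_prime_pow_of_unique_prime_dvd index_ne_zero_of_finite fun {d} hd hdJ => ?_⟩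
    by_contra hdq
    haveI := Fact.mk hd
    obtain ⟨Q⟩ : Nonempty (Sylow d X) := inferInstance
    exact Q.not_dvd_index (hdJ.trans (index_dvd_of_le (hJQ d Q hdq)))
  obtain ⟨e, he⟩ := hJidx
  have hJtop : Cfsg.pResidual q X ≤ J := pResidual_le_of_isSubnormal hJsub e he
  have hJle : J ≤ Cfsg.pResidual q X := by
    rw [← resOf_top]
    exact sup_le (resOf_mono le_top) (resOf_mono le_top)
  have hJeq : J = Cfsg.pResidual q X := le_antisymm hJle hJtop
  by_cases hJT : J = ⊤
  · -- transfer into `S ⧸ R`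
    set R₀ := (R q S).subgroupOf (S : Subgroup X) with hR₀
    have hzS : (z : X) ∈ (S : Subgroup X) := hNS z.2
    haveI : R₀.Normal := normal_subgroupOf_of_le_normalizer (hSeq.le.trans (sup_le le_normalizer
      (fun d hd => mem_normalizer_iff.2 fun h => by
        rw [← Subgroup.mem_center_iff.1 (hNc hd) h, mul_inv_cancel_right])))
    have hidx : Nat.card (↥(S : Subgroup X) ⧸ R₀) = q := by
      have h1 : Nat.card ↥(S : Subgroup X) = Nat.card ↥(R q S) * q := by
        conv_lhs => rw [hSeq]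
        have := Modules.card_sup_mul_card_inf (V := R q S) (B := N)
          ((hNc.trans (center_le_centralizer _)).trans (centralizer_le_normalizer _))
        rw [sup_comm N, inf_comm N, hRN, Subgroup.card_bot, mul_one, hNr] at this
        rw [this, mul_comm]
      have h2 := R₀.card_mul_index
      rw [Subgroup.index_eq_card, Nat.card_congr (subgroupOfEquivOfLe
        (sup_le inf_le_left inf_le_left : R q S ≤ S)).toEquiv, h1] at h2
      exact Nat.eq_of_mul_eq_mul_left Nat.card_pos h2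
    haveI : IsCyclic (↥(S : Subgroup X) ⧸ R₀) := isCyclic_of_prime_card hidx
    letI : CommGroup (↥(S : Subgroup X) ⧸ R₀) := IsCyclic.commGroup
    let φ : ↥(S : Subgroup X) →* ↥(S : Subgroup X) ⧸ R₀ := QuotientGroup.mk' R₀
    have hzc : ∀ g₀ : X, ∀ k : ℕ, g₀⁻¹ * (z : X) ^ k * g₀ = (z : X) ^ k := fun g₀ k => by
      rw [mul_assoc, ← Subgroup.mem_center_iff.1 (pow_mem (hNc z.2) k) g₀, inv_mul_cancel_left]
    have htr := MonoidHom.transfer_eq_pow φ (z : X) (fun k g₀ _ => hzc g₀ k)
    have hker : Cfsg.pResidual q X ≤ (MonoidHom.transfer φ).ker := by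
      rw [Cfsg.pResidual, closure_le]
      intro x hx
      rw [SetLike.mem_coe, MonoidHom.mem_ker, ← orderOf_eq_one_iff]
      refine Nat.eq_one_of_dvd_coprimes hx (orderOf_map_dvd _ x) ?_
      exact (_root_.orderOf_dvd_natCard _).trans (dvd_of_eq hidx)
    have h1 : MonoidHom.transfer φ (z : X) = 1 := hker (by rw [← hJeq, hJT]; exact mem_top _)
    rw [htr] at h1
    have h2 : (z : X) ^ (S : Subgroup X).index ∈ R q S :=
      mem_subgroupOf.1 ((QuotientGroup.eq_one_iff _).1 h1)
    have h3 : (z : X) ^ (S : Subgroup X).index ∈ R q S ⊓ N := ⟨h2, pow_mem z.2 _⟩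
    rw [hRN, mem_bot] at h3
    have h4 := orderOf_dvd_of_pow_eq_one h3
    rw [orderOf_coe, hz] at h4
    exact S.not_dvd_index h4
  have hJcard : Nat.card J ≤ n := by
    have : Nat.card J < Nat.card X :=
      lt_of_le_of_ne (card_le_card_group J) fun e => hJT (eq_top_of_card_eq J e)
    omega
  haveI : J.Normal := hJeq ▸ inferInstance
  have hSJ := isSyl_inf_subnormal S hJsub
  let SJ : Sylow q J := (hSJ.isP.comap_subtype (K := J)).toSylow hSJ.idx
  have hSJmap : (SJ : Subgroup J).map J.subtype = (S : Subgroup X) ⊓ J :=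
    map_subgroupOf_eq_of_le inf_le_right
  have hin := ih J hJcard ((resOf q L₁).subgroupOf J) ((resOf q L₂).subgroupOf J)
    ((hres h₁).subgroupOf) ((hres h₂).subgroupOf)
    (by rw [← subgroupOf_sup le_sup_left le_sup_right, subgroupOf_self]) q SJ
  have hin' := congrArg (Subgroup.map J.subtype) hin
  rw [Subgroup.map_sup, Subgroup.map_inf _ _ _ J.subtype_injective, Subgroup.map_inf _ _ _ J.subtype_injective, hSJmap,
    map_subgroupOf_eq_of_le le_sup_left, map_subgroupOf_eq_of_le le_sup_right] at hin'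
  have hSJR : (S : Subgroup X) ⊓ J ≤ R q S := hin'.ge.trans (sup_le
    (le_sup_of_le_left (inf_le_inf inf_le_left (resOf_le L₁)))
    (le_sup_of_le_right (inf_le_inf inf_le_left (resOf_le L₂))))
  have hgen : (S : Subgroup X) ≤ R q S ⊔ J := by
    refine (le_top : (S : Subgroup X) ≤ ⊤).trans (htop.ge.trans (sup_le ?_ ?_))
    · rw [← resOf_sup_eq inf_le_right (isSyl_inf_subnormal S h₁).idx]
      exact sup_le (le_sup_of_le_right le_sup_left) (le_sup_of_le_left le_sup_left)
    · rw [← resOf_sup_eq inf_le_right (isSyl_inf_subnormal S h₂).idx]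
      exact sup_le (le_sup_of_le_right le_sup_right) (le_sup_of_le_left le_sup_right)
  exact hNR (hNS.trans ((le_sup_inf_of_le_sup (sup_le inf_le_left inf_le_left) hgen).le.trans
    (sup_le le_rfl hSJR)))

/-- `S ∩ ⟨L₁, L₂⟩ = ⟨S ∩ L₁, S ∩ L₂⟩` for subnormal `L₁`, `L₂`. -/
theorem sylow_inf_sup [Fact p.Prime] (S : Sylow p G) {L₁ L₂ : Subgroup G} (h₁ : L₁.IsSubnormal)
    (h₂ : L₂.IsSubnormal) :
    (S : Subgroup G) ⊓ (L₁ ⊔ L₂) = ((S : Subgroup G) ⊓ L₁) ⊔ ((S : Subgroup G) ⊓ L₂) := by
  set L := L₁ ⊔ L₂ with hL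
  have h := isSyl_inf_subnormal S (SubnormalLib.isSubnormal_sup h₁ h₂)
  let SL : Sylow p L := (h.isP.comap_subtype (K := L)).toSylow h.idx
  have hmap : (SL : Subgroup L).map L.subtype = (S : Subgroup G) ⊓ L :=
    map_subgroupOf_eq_of_le inf_le_right
  have h' := congrArg (Subgroup.map L.subtype) (sylow_join_aux (Nat.card L) L le_rfl
    (L₁.subgroupOf L) (L₂.subgroupOf L) h₁.subgroupOf h₂.subgroupOf
    (by rw [← subgroupOf_sup le_sup_left le_sup_right, subgroupOf_self]) p SL)
  rw [Subgroup.map_sup, Subgroup.map_inf _ _ _ L.subtype_injective, Subgroup.map_inf _ _ _ L.subtype_injective, hmap,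
    map_subgroupOf_eq_of_le le_sup_left, map_subgroupOf_eq_of_le le_sup_right, inf_assoc,
    inf_assoc, inf_eq_right.2 (le_sup_left : L₁ ≤ L), inf_eq_right.2 (le_sup_right : L₂ ≤ L)] at h'
  exact h'.symm

end Cfsg.Agent.LocalP
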