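import Cfsg.Agent.LocalP.Subnormal

/-!
Weakly closed subgroups in the sense of `Cfsg.IsWeaklyClosedSubgroup`.
-/

namespace Cfsg.Agent.LocalP

open Subgroup Fusion
open scoped commutatorElement

variable {G : Type*} [Group G] [Finite G] {p : ℕ} [Fact p.Prime]

/-- A weakly closed subgroup is the only conjugate of itself in any `p`-subgroup containing it. -/
theorem wc_eq_of_le {Q R : Subgroup G} (h : Cfsg.IsWeaklyClosedSubgroup p Q) (hR : IsPGroup p R)
    (hQR : Q ≤ R) {g : G} (hg : cj g Q ≤ R) : cj g Q = Q := by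
  obtain ⟨T, hQT, hT⟩ := h
  obtain ⟨T', hT'⟩ := hR.exists_le_sylow
  obtain ⟨k, hk⟩ := exists_cj_sylow T' T
  have h1 : cj k Q = Q := hT k ((cj_mono k (hQR.trans hT')).trans hk.le)
  have h2 : cj k (cj g Q) = Q := by
    rw [cj_cj]; exact hT _ (by rw [← cj, ← cj_cj]; exact (cj_mono k (hg.trans hT')).trans hk.le)
  calc cj g Q = cj k⁻¹ (cj k (cj g Q)) := (cj_inv_cj k _).symm
    _ = cj k⁻¹ (cj k Q) := by rw [h2, h1]
    _ = Q := cj_inv_cj k Q

theorem wc_isPGroup {Q : Subgroup G} (h : Cfsg.IsWeaklyClosedSubgroup p Q) : IsPGroup p Q := by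
  obtain ⟨T, hQT, -⟩ := h
  exact T.2.to_le hQT

theorem wc_le_normalizer {Q R : Subgroup G} (h : Cfsg.IsWeaklyClosedSubgroup p Q)
    (hR : IsPGroup p R) (hQR : Q ≤ R) : R ≤ Subgroup.normalizer (Q : Set G) := fun r hr =>
  cj_eq_iff_mem_normalizer.1 (wc_eq_of_le h hR hQR ((cj_mono r hQR).trans (cj_eq_self_of_mem hr).le))

theorem wc_normalizer_le {Q R : Subgroup G} (h : Cfsg.IsWeaklyClosedSubgroup p Q)
    (hR : IsPGroup p R) (hQR : Q ≤ R) :
    Subgroup.normalizer (R : Set G) ≤ Subgroup.normalizer (Q : Set G) := fun _ hn =>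
  cj_eq_iff_mem_normalizer.1 (wc_eq_of_le h hR hQR ((cj_mono _ hQR).trans (cj_eq_of_mem hn).le))

theorem wc_of_normalizer_le {Q : Subgroup G} (hQ : IsPGroup p Q)
    (h : ∀ R : Subgroup G, IsPGroup p R → Q ≤ R →
      Subgroup.normalizer (R : Set G) ≤ Subgroup.normalizer (Q : Set G)) :
    Cfsg.IsWeaklyClosedSubgroup p Q := by
  obtain ⟨T, hT⟩ := hQ.exists_le_sylow
  refine ⟨T, hT, fun g hg => ?_⟩
  have hQ' : Q ≤ cj g⁻¹ T := le_cj_iff.2 (by rwa [inv_inv])
  have hT'N : cj g⁻¹ T ≤ Subgroup.normalizer (Q : Set G) :=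
    Subgroup.le_normalizer.trans (h _ (isPGroup_cj T.2 g⁻¹) hQ')
  have hTN : (T : Subgroup G) ≤ Subgroup.normalizer (Q : Set G) :=
    Subgroup.le_normalizer.trans (h T T.2 hT)
  have hTi : ¬ p ∣ (T : Subgroup G).relIndex (Subgroup.normalizer (Q : Set G)) := fun hd =>
    T.not_dvd_index (hd.trans (Subgroup.relIndex_dvd_index_of_le hTN))
  have hTi' : ¬ p ∣ (cj g⁻¹ T).relIndex (Subgroup.normalizer (Q : Set G)) := fun hd =>
    T.not_dvd_index (by
      have := hd.trans (Subgroup.relIndex_dvd_index_of_le hT'N)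
      rwa [cj, Subgroup.index_map_of_bijective (MulEquiv.bijective _)] at this)
  obtain ⟨y, hy, hy'⟩ := exists_conj_of_relIndex (isPGroup_cj T.2 g⁻¹) T.2 hT'N hTN hTi' hTi
  rw [cj_cj] at hy'
  have h1 := h T T.2 hT (cj_eq_iff_mem_normalizer.1 hy')
  have hgN : g⁻¹ ∈ Subgroup.normalizer (Q : Set G) := by
    simpa [mul_assoc] using mul_mem (inv_mem hy) h1
  exact cj_eq_iff_mem_normalizer.2 (by simpa using inv_mem hgN)

/-- Criterion: no distinct conjugate of `Q` normalizes and is normalized by `Q`. -/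
theorem wc_of_commutator {Q : Subgroup G} (hQ : IsPGroup p Q)
    (h : ∀ g : G, ⁅Q, cj g Q⁆ ≤ Q ⊓ cj g Q → cj g Q = Q) :
    Cfsg.IsWeaklyClosedSubgroup p Q := by
  have key : ∀ g : G, cj g Q ≤ Subgroup.normalizer (Q : Set G) →
      Q ≤ Subgroup.normalizer (cj g Q : Set G) → cj g Q = Q := by
    intro g h1 h2
    refine h g (le_inf (commutator_le_of_le_normalizer h1) ?_)
    rw [Subgroup.commutator_comm]
    exact commutator_le_of_le_normalizer h2
  have hnor : ∀ R : Subgroup G, IsPGroup p R → Q ≤ R → R ≤ Subgroup.normalizer (Q : Set G) := by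
    intro R hR hQR
    by_contra hne
    have hlt : R ⊓ Subgroup.normalizer (Q : Set G) < R :=
      lt_of_le_of_ne inf_le_left fun he => hne (inf_eq_left.1 he)
    obtain ⟨x, ⟨hxR, hxN⟩, hx⟩ := SetLike.exists_of_lt (lt_normalizer_inf hR hlt)
    refine hx ⟨hxR, cj_eq_iff_mem_normalizer.1 (key x ?_ ?_)⟩
    · refine (cj_mono x (le_inf hQR Subgroup.le_normalizer)).trans ?_
      rw [cj_eq_of_mem hxN]; exact inf_le_right
    · have := cj_mono x (inf_le_right : R ⊓ Subgroup.normalizer (Q : Set G) ≤ _)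
      rw [cj_eq_of_mem hxN, cj_normalizer] at this
      exact (le_inf hQR Subgroup.le_normalizer).trans this
  refine wc_of_normalizer_le hQ fun R hR hQR n hn => ?_
  have hQn : cj n Q ≤ R := (cj_mono n hQR).trans (cj_eq_of_mem hn).le
  refine cj_eq_iff_mem_normalizer.1 (key n (hQn.trans (hnor R hR hQR)) (hQR.trans ?_))
  have := cj_mono n (hnor R hR hQR)
  rwa [cj_eq_of_mem hn, cj_normalizer] at this

theorem wc_map_injective {Q : Subgroup G} {K : Subgroup G} (hQK : Q ≤ K)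
    (h : Cfsg.IsWeaklyClosedSubgroup p Q) : Cfsg.IsWeaklyClosedSubgroup p (Q.subgroupOf K) := by
  obtain ⟨V, hV⟩ := ((wc_isPGroup h).comap_subtype (K := K)).exists_le_sylow
  refine ⟨V, hV, fun k hk => ?_⟩
  apply Subgroup.map_injective K.subtype_injective
  have hle : Q ≤ (V : Subgroup K).map K.subtype := fun x hx => ⟨⟨x, hQK hx⟩, hV hx, rfl⟩
  have e : ((Q.subgroupOf K).map (MulAut.conj k).toMonoidHom).map K.subtype = cj (k : G) Q := by
    rw [Subgroup.map_map, show K.subtype.comp (MulAut.conj k).toMonoidHom =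
      (MulAut.conj (k : G)).toMonoidHom.comp K.subtype from MonoidHom.ext fun _ => rfl,
      ← Subgroup.map_map, Subgroup.map_subgroupOf_eq_of_le hQK]
  rw [e, Subgroup.map_subgroupOf_eq_of_le hQK]
  exact wc_eq_of_le h (V.2.map _) hle (e ▸ Subgroup.map_mono hk)

/-- A conjugate of a weakly closed `Q` inside `K ≥ Q` is a `K`-conjugate. -/
theorem wc_exists_conj {Q K : Subgroup G} (h : Cfsg.IsWeaklyClosedSubgroup p Q) (hQK : Q ≤ K)
    {g : G} (hg : cj g Q ≤ K) : ∃ k ∈ K, cj g Q = cj k Q := by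
  obtain ⟨V, hV⟩ := ((wc_isPGroup h).comap_subtype (K := K)).exists_le_sylow
  obtain ⟨W, hW⟩ := ((isPGroup_cj (wc_isPGroup h) g).comap_subtype (K := K)).exists_le_sylow
  have hle : Q ≤ (V : Subgroup K).map K.subtype := fun x hx => ⟨⟨x, hQK hx⟩, hV hx, rfl⟩
  have hle' : cj g Q ≤ (W : Subgroup K).map K.subtype := fun x hx => ⟨⟨x, hg hx⟩, hW hx, rfl⟩
  obtain ⟨k, hk⟩ := exists_cj_sylow W V
  have hk' : cj (k : G) ((W : Subgroup K).map K.subtype) = (V : Subgroup K).map K.subtype := by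
    rw [← hk, cj, cj, Subgroup.map_map, Subgroup.map_map]
    rfl
  have h1 := wc_eq_of_le h (V.2.map _) hle (g := (k : G) * g)
    (by rw [← cj_cj]; exact (cj_mono _ hle').trans hk'.le)
  refine ⟨((k : G))⁻¹, inv_mem k.2, ?_⟩
  rw [← cj_cj] at h1
  nth_rewrite 2 [← h1]
  rw [cj_inv_cj]

end Cfsg.Agent.LocalP
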