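import Cfsg.Agent.LocalP.PClosed

/-!
Basic facts about `Y`-minimal groups.
-/

namespace Cfsg.Agent.LocalP

open Subgroup

variable {L : Type*} [Group L] [Finite L] {p : ℕ} [hp : Fact p.Prime]

/-- The basic configuration: `Y` a `p`-subgroup of the maximal subgroup `L₀`, `L` is `Y`-minimal. -/
structure YConf (p : ℕ) (L₀ Y : Subgroup L) : Prop where
  coatom : IsCoatom L₀
  le : Y ≤ L₀
  isPGroup : IsPGroup p Y
  min : Cfsg.IsMinimalOver Y

namespace YConf

variable {L₀ Y : Subgroup L}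

omit hp in
theorem le_of (h : YConf p L₀ Y) {X : Subgroup L} (hX : Y ≤ X) (hne : X ≠ ⊤) : X ≤ L₀ :=
  le_of_isMinimalOver h.min h.coatom h.le hX hne

omit [Finite L] hp in
theorem not_le_normal (h : YConf p L₀ Y) {N : Subgroup L} [N.Normal] (hN : N ≤ L₀) : ¬ Y ≤ N :=
  fun hY => h.coatom.1 (top_le_iff.1 ((eq_top_of_le_normal_of_normalClosure h.min.1 hY).ge.trans hN))

omit hp in
theorem normalizer_le (h : YConf p L₀ Y) {T : Subgroup L} (hYT : Y ≤ T) (hT : T ≤ L₀) :
    Subgroup.normalizer (T : Set L) ≤ L₀ := by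
  refine h.le_of (hYT.trans Subgroup.le_normalizer) fun he => ?_
  haveI : T.Normal := Subgroup.normalizer_eq_top_iff.1 he
  exact h.not_le_normal hT hYT

omit hp in
theorem normalizer_self (h : YConf p L₀ Y) : Subgroup.normalizer (L₀ : Set L) = L₀ :=
  le_antisymm (h.normalizer_le h.le le_rfl) Subgroup.le_normalizer

omit hp in
theorem mem_of_le_cj (h : YConf p L₀ Y) {g : L} (hg : Y ≤ Fusion.cj g L₀) : g ∈ L₀ := by
  have hne : Fusion.cj g L₀ ≠ ⊤ := fun e => h.coatom.1 (by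
    rw [← Fusion.cj_inv_cj g L₀, e, Fusion.cj_eq_of_normal])
  rw [← h.normalizer_self]
  exact Fusion.cj_eq_iff_mem_normalizer.1
    (Subgroup.eq_of_le_of_card_ge (h.le_of hg hne) (by rw [Fusion.card_cj]))

omit hp in
theorem sup_conj_eq_top (h : YConf p L₀ Y) {g : L} (hg : g ∉ L₀) :
    Y ⊔ Fusion.cj g Y = ⊤ := by
  by_contra hne
  have h1 : Fusion.cj g Y ≤ L₀ := le_sup_right.trans (h.le_of le_sup_left hne)
  have h2 := Fusion.cj_mono g⁻¹ h1
  rw [Fusion.cj_inv_cj] at h2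
  exact hg (by simpa using inv_mem (h.mem_of_le_cj h2))

theorem not_isPGroup (h : YConf p L₀ Y) : ¬ IsPGroup p L := by
  intro hP
  haveI : L₀.Normal :=
    haveI := hP.isNilpotent
    Subgroup.NormalizerCondition.normal_of_coatom L₀ Group.normalizerCondition_of_isNilpotent h.coatom
  exact h.not_le_normal le_rfl h.le

theorem pCore_le (h : YConf p L₀ Y) : Cfsg.pCore p L ≤ L₀ := by
  refine le_sup_right.trans (h.le_of (le_sup_left : Y ≤ Y ⊔ Cfsg.pCore p L) fun he => ?_)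
  have h1 : IsPGroup p ↥(Y ⊔ Cfsg.pCore p L) := h.isPGroup.to_sup_of_normal_right Cores.pCore_isPGroup
  rw [he] at h1
  exact h.not_isPGroup (h1.of_equiv Subgroup.topEquiv)

theorem exists_sylow_eq (h : YConf p L₀ Y) (T : Sylow p ↥L₀)
    (hYT : Y ≤ (T : Subgroup ↥L₀).map L₀.subtype) :
    ∃ P : Sylow p L, (P : Subgroup L) = (T : Subgroup ↥L₀).map L₀.subtype := by
  obtain ⟨P, hP⟩ := (T.2.map L₀.subtype).exists_le_sylow
  refine ⟨P, ?_⟩
  set T' := (T : Subgroup ↥L₀).map L₀.subtype with hT'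
  have heq : (P : Subgroup L) ⊓ L₀ = T' := by
    refine le_antisymm (fun x hx => ?_) (le_inf hP (Subgroup.map_subtype_le _))
    have hle : (T : Subgroup ↥L₀) ≤ (P : Subgroup L).subgroupOf L₀ :=
      fun y hy => hP ⟨y, hy, rfl⟩
    exact ⟨⟨x, hx.2⟩, (T.3 P.2.comap_subtype hle).le hx.1, rfl⟩
  by_contra hne
  obtain ⟨x, ⟨hxP, hxN⟩, hx⟩ :=
    SetLike.exists_of_lt (Fusion.lt_normalizer_inf P.2 (lt_of_le_of_ne hP (Ne.symm hne)))
  exact hx (heq.le ⟨hxP, h.normalizer_le hYT (Subgroup.map_subtype_le _) hxN⟩)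

theorem inf_conj_eq_center (h : YConf p L₀ Y) (hab : IsMulCommutative ↥Y) {g : L} (hg : g ∉ L₀) :
    Y ⊓ Fusion.cj g Y = Y ⊓ Subgroup.center L := by
  refine le_antisymm ?_ ?_
  · rintro y ⟨hy, hy'⟩
    refine ⟨hy, Subgroup.mem_center_iff.2 fun x => ?_⟩
    have hx : x ∈ Subgroup.centralizer ({y} : Set L) := by
      have : (⊤ : Subgroup L) ≤ Subgroup.centralizer ({y} : Set L) := by
        rw [← h.sup_conj_eq_top hg]
        refine sup_le (fun a ha => ?_) (fun a ha => ?_)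
        · refine Subgroup.mem_centralizer_iff.2 fun z hz => ?_
          rw [Set.mem_singleton_iff.1 hz]
          exact congrArg Subtype.val (hab.is_comm.comm (⟨y, hy⟩ : ↥Y) ⟨a, ha⟩)
        · refine Subgroup.mem_centralizer_iff.2 fun z hz => ?_
          rw [Set.mem_singleton_iff.1 hz]
          obtain ⟨a', ha', rfl⟩ := ha
          obtain ⟨y', hy'', rfl⟩ := hy'
          rw [← map_mul, ← map_mul]
          exact congrArg _ (congrArg Subtype.val (hab.is_comm.comm (⟨y', hy''⟩ : ↥Y) ⟨a', ha'⟩))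
      exact this (Subgroup.mem_top x)
    exact (Subgroup.mem_centralizer_iff.1 hx y rfl).symm
  · rintro y ⟨hy, hyc⟩
    refine ⟨hy, y, hy, ?_⟩
    simp only [MulEquiv.coe_toMonoidHom, MulAut.conj_apply]
    rw [Subgroup.mem_center_iff.1 hyc g, mul_inv_cancel_right]

end YConf

end Cfsg.Agent.LocalP
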